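import Cfsg.Agent.Lib.Fusion.EssentialSmall.RankTwo
import Cfsg.Agent.Lib.Fusion.EssentialSmall.Cube
import Cfsg.Agent.Lib.UniqueSubgroup
import Cfsg.Agent.Lib.RegularPGroup

/-!
Elementary facts about `p`-groups of rank two used for resistance.
-/

set_option autoImplicit false
set_option linter.unusedSectionVars false
set_option linter.style.haveILetI false

namespace Cfsg.RankTwoResistant

open scoped commutatorElement

universe u

variable {p : ℕ} [hp : Fact p.Prime]

/-- In a group of rank two an elementary subgroup of order `p²` absorbs its commuting elements of order `p`. -/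
theorem rank_extend {Ω : Type u} [Group Ω] {S B : Subgroup Ω} [Finite S]
    (hrk : ∀ T : Subgroup Ω, T ≤ S → Cfsg.IsElementaryAbelian p T → Nat.card T ≤ p ^ 2) (hBS : B ≤ S)
    (hB : Cfsg.IsElementaryAbelian p B) (hcard : Nat.card B = p ^ 2) {y : Ω} (hy : y ∈ S) (hyp : y ^ p = 1)
    (hc : ∀ b ∈ B, b * y = y * b) : y ∈ B := by
  by_contra hyB
  set T := Subgroup.closure (insert y (B : Set Ω)) with hT
  have hTS : T ≤ S := (Subgroup.closure_le _).2 (Set.insert_subset hy hBS)
  haveI := hB.1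
  haveI hTc : IsMulCommutative T := Subgroup.isMulCommutative_closure (by
    rintro a (rfl | ha) b (rfl | hb)
    · rfl
    · exact (hc b hb).symm
    · exact hc a ha
    · exact congrArg Subtype.val (mul_comm' (⟨a, ha⟩ : B) ⟨b, hb⟩))
  have hT2 : Cfsg.IsElementaryAbelian p T := by
    refine ⟨hTc, fun t ht => ?_⟩
    have key : ∀ t : T, t ^ p = 1 := by
      intro t
      obtain ⟨t, ht⟩ := t
      induction ht using Subgroup.closure_induction with
      | mem x hx =>
        rcases hx with rfl | hx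
        · exact Subtype.ext hyp
        · exact Subtype.ext (hB.2 x hx)
      | one => exact one_pow p
      | mul a b ha hb iha ihb =>
        show ((⟨a, ha⟩ : T) * ⟨b, hb⟩) ^ p = 1
        rw [(show Commute (⟨a, ha⟩ : T) ⟨b, hb⟩ from mul_comm' _ _).mul_pow, iha, ihb, one_mul]
      | inv a ha iha =>
        show (⟨a, ha⟩ : T)⁻¹ ^ p = 1
        rw [inv_pow, iha, inv_one]
    exact congrArg Subtype.val (key ⟨t, ht⟩)
  haveI : Finite T := Finite.of_injective _ (Subgroup.inclusion_injective hTS)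
  have hlt : B < T := lt_of_le_of_ne (fun b hb => Subgroup.subset_closure (Or.inr hb))
    fun e => hyB (e ▸ Subgroup.subset_closure (Or.inl rfl))
  have := hrk T hTS hT2
  exact hlt.ne (Subgroup.eq_of_le_of_card_ge hlt.le (hcard ▸ this))

variable {X : Type u} [Group X] [Finite X]

/-- A `p`-power automorphism fixes a group of order at most `p`. -/
theorem fix_of_card_dvd {r : MulAut X} {j : ℕ} (hr : r ^ p ^ j = 1) (h : Nat.card X ∣ p) (x : X) : r x = x :=
  (inv_mul_eq_one.mp (Subgroup.mem_bot.mp (EssentialSmall.inv_mul_mem_of_step hr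
    (fun z hz => by rw [Subgroup.mem_bot.mp hz, map_one]; exact one_mem _) (fun _ _ => Subgroup.mem_top _)
    (K := ⊥) (L := ⊤) (by rwa [Subgroup.relIndex_bot_left, Subgroup.card_top]) x (Subgroup.mem_top x)))).symm

/-- The line fixed by a `p`-group of automorphisms of a group of order `p²`. -/
theorem exists_line {R : Subgroup (MulAut X)} (hR : IsPGroup p R) (hcard : Nat.card X = p ^ 2)
    (hexp : ∀ x : X, x ^ p = 1) :
    ∃ z : X, z ≠ 1 ∧ (Subgroup.zpowers z).index = p ∧ (∀ r ∈ R, r z = z) ∧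
      ∀ r ∈ R, ∀ x : X, x⁻¹ * r x ∈ Subgroup.zpowers z := by
  obtain ⟨z, hz1, hz⟩ := EssentialSmall.exists_fixed hR (hcard ▸ dvd_pow_self p two_ne_zero)
  have hidx : (Subgroup.zpowers z).index = p := by
    have h := (Subgroup.zpowers z).card_mul_index
    rw [Nat.card_zpowers, orderOf_eq_prime (hexp z) hz1, hcard, pow_two] at h
    exact Nat.eq_of_mul_eq_mul_left hp.out.pos h
  refine ⟨z, hz1, hidx, hz, fun r hr x => ?_⟩
  obtain ⟨j, hj⟩ := hR ⟨r, hr⟩
  refine EssentialSmall.inv_mul_mem_of_step (j := j) (congrArg Subtype.val hj) (L := ⊤)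
    (fun w hw => ?_) (fun _ _ => Subgroup.mem_top _) (by rw [Subgroup.relIndex_top_right, hidx]) x (Subgroup.mem_top x)
  obtain ⟨i, rfl⟩ := hw
  show r (z ^ i) ∈ _
  rw [map_zpow, hz r hr]
  exact zpow_mem (Subgroup.mem_zpowers z) i

theorem card_autSub_le {R : Subgroup (MulAut X)} (hR : IsPGroup p R) (hcard : Nat.card X = p ^ 2)
    (hexp : ∀ x : X, x ^ p = 1) : Nat.card R ≤ p := by
  obtain ⟨z, hz1, hidx, hfix, hrange⟩ := exists_line hR hcard hexp
  obtain ⟨a, ha⟩ : ∃ a, a ∉ Subgroup.zpowers z := by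
    by_contra hh
    push Not at hh
    rw [(Subgroup.eq_top_iff' _).2 hh, Subgroup.index_top] at hidx
    exact hp.out.one_lt.ne hidx
  have h := Nat.card_le_card_of_injective (fun r : R => (⟨a⁻¹ * (r : MulAut X) a, hrange r r.2 a⟩ : Subgroup.zpowers z))
    fun r s e => by
      have e1 : (r : MulAut X) a = (s : MulAut X) a := mul_left_cancel (congrArg Subtype.val e)
      let K := (r : MulAut X).toMonoidHom.eqLocus (s : MulAut X).toMonoidHom
      have hle : Subgroup.zpowers z ≤ K :=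
        Subgroup.zpowers_le.2 ((hfix r r.2).trans (hfix s s.2).symm)
      have hd : K.index ∣ p := hidx ▸ Subgroup.index_dvd_of_le hle
      rcases (Nat.dvd_prime hp.out).1 hd with h1 | h1
      · exact Subtype.ext (MulEquiv.ext fun x => (Subgroup.index_eq_one.1 h1 ▸ Subgroup.mem_top x : x ∈ K))
      · have hlt : Subgroup.zpowers z < K := lt_of_le_of_ne hle fun e2 => ha (e2 ▸ e1)
        exact absurd (Subgroup.index_strictAnti hlt) (by omega)
  rwa [Nat.card_zpowers, orderOf_eq_prime (hexp z) hz1] at h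

/-- Exponent `p` and no abelian subgroups of order `p³`: order at most `p³`. -/
theorem card_le_cube (hX : IsPGroup p X) (hexp : ∀ x : X, x ^ p = 1)
    (hab : ∀ A : Subgroup X, (∀ x ∈ A, ∀ y ∈ A, x * y = y * x) → Nat.card A ≤ p ^ 2) :
    Nat.card X ≤ p ^ 3 := by
  haveI := hX.isNilpotent
  obtain ⟨A, hAn, hAc, hself⟩ := CfsgLib.UniqueSubgroup.exists_self_centralizing X
  let φ : X →* MulAut A := MulAut.conjNormal
  have hker : φ.ker = A := by
    ext x
    rw [MonoidHom.mem_ker]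
    constructor
    · intro hx
      refine hself fun a ha => ?_
      have := congrArg (fun f : MulAut A => ((f ⟨a, ha⟩ : A) : X)) hx
      simp only [φ, MulAut.conjNormal_apply, MulAut.one_apply] at this
      exact (mul_inv_eq_iff_eq_mul.1 this).symm
    · intro hx
      refine MulEquiv.ext fun a => Subtype.ext ?_
      simp only [φ, MulAut.conjNormal_apply, MulAut.one_apply]
      rw [hAc x hx a a.2, mul_inv_cancel_right]
  have hR : IsPGroup p φ.range := hX.of_surjective φ.rangeRestrict φ.rangeRestrict_surjective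
  have hA := hab A hAc
  have hrange : Nat.card φ.range ≤ p := by
    obtain ⟨n, hn⟩ := IsPGroup.iff_card.1 (hX.to_subgroup A)
    rcases Nat.lt_or_ge n 2 with h2 | h2
    · have hd : Nat.card A ∣ p := by
        rw [hn]; exact (pow_dvd_pow p (Nat.lt_succ_iff.1 h2)).trans (pow_one p).dvd
      have : φ.range = ⊥ := by
        rw [Subgroup.eq_bot_iff_forall]
        intro r hr
        obtain ⟨j, hj⟩ := hR ⟨r, hr⟩
        exact MulEquiv.ext fun a => fix_of_card_dvd (congrArg Subtype.val hj) hd a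
      rw [this, Subgroup.card_bot]
      exact hp.out.one_lt.le
    · exact card_autSub_le hR (le_antisymm hA (hn ▸ Nat.pow_le_pow_right hp.out.pos h2))
        fun a => Subtype.ext (by simpa using hexp a)
  rw [← A.card_mul_index, ← hker, Subgroup.index_ker, hker, pow_succ]
  exact Nat.mul_le_mul hA hrange

/-- Two independent elements modulo a subgroup of index `p²`. -/
theorem decomp {N : Subgroup X} [N.Normal] (hidx : N.index = p ^ 2) {k l : X}
    (hk : k ∉ N) (hl : l ∉ N ⊔ Subgroup.zpowers k) (x : X) :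
    ∃ n ∈ N, ∃ i j : ℕ, x = n * (k ^ i * l ^ j) := by
  have hpp := hp.out
  have hstep : ∀ (H : Subgroup X) (a : X), a ∉ H → N ≤ H → H.index ∣ p ^ 2 →
      (H ⊔ Subgroup.zpowers a).index * p ∣ p ^ 2 := by
    intro H a ha _ hH
    obtain ⟨i, -, hi⟩ := (Nat.dvd_prime_pow hpp).1 hH
    obtain ⟨j, -, hj⟩ := (Nat.dvd_prime_pow hpp).1
      ((Subgroup.index_dvd_of_le (le_sup_left : H ≤ H ⊔ Subgroup.zpowers a)).trans hH)
    have hlt : H < H ⊔ Subgroup.zpowers a := lt_of_le_of_ne le_sup_left fun e =>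
      ha (e ▸ Subgroup.mem_sup_right (Subgroup.mem_zpowers a))
    have hlt' := Subgroup.index_strictAnti hlt
    rw [hi, hj] at hlt'
    have hji : j < i := (Nat.pow_lt_pow_iff_right hpp.one_lt).1 hlt'
    rw [hj, ← pow_succ]
    exact (pow_dvd_pow p hji).trans (hi ▸ hH)
  have hM : (N ⊔ Subgroup.zpowers k).index ∣ p := by
    have := hstep N k hk le_rfl (dvd_of_eq hidx)
    rw [pow_two] at this
    exact Nat.dvd_of_mul_dvd_mul_right hpp.pos this
  have htop : N ⊔ Subgroup.zpowers k ⊔ Subgroup.zpowers l = ⊤ := by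
    rw [← Subgroup.index_eq_one]
    have hlt : N ⊔ Subgroup.zpowers k < N ⊔ Subgroup.zpowers k ⊔ Subgroup.zpowers l :=
      lt_of_le_of_ne le_sup_left fun e => hl (e ▸ Subgroup.mem_sup_right (Subgroup.mem_zpowers l))
    rcases (Nat.dvd_prime hpp).1 ((Subgroup.index_dvd_of_le le_sup_left).trans hM) with h | h
    · exact h
    · have := Subgroup.index_strictAnti hlt
      have := Nat.le_of_dvd hpp.pos hM
      omega
  set π := QuotientGroup.mk' N
  have hc : ∀ a b : X ⧸ N, Commute a b := fun a b => IsPGroup.commutative_of_card_eq_prime_sq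
    (p := p) (by rw [← Subgroup.index_eq_card, hidx]) a b
  have hx : π x ∈ Subgroup.zpowers (π k) ⊔ Subgroup.zpowers (π l) := by
    have h1 : x ∈ N ⊔ Subgroup.zpowers k ⊔ Subgroup.zpowers l := by rw [htop]; trivial
    have h2 := Subgroup.mem_map_of_mem π h1
    rwa [Subgroup.map_sup, Subgroup.map_sup, MonoidHom.map_zpowers, MonoidHom.map_zpowers,
      QuotientGroup.map_mk'_self, bot_sup_eq] at h2
  haveI : ∀ H : Subgroup (X ⧸ N), H.Normal := fun H => ⟨fun n hn g => by
    rw [(hc g n).eq, mul_inv_cancel_right]; exact hn⟩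
  obtain ⟨_, ha, _, hb, e⟩ := Subgroup.mem_sup_of_normal_left.1 hx
  obtain ⟨i, rfl⟩ := mem_powers_iff_mem_zpowers.2 ha
  obtain ⟨j, rfl⟩ := mem_powers_iff_mem_zpowers.2 hb
  refine ⟨x * (k ^ i * l ^ j)⁻¹, ?_, i, j, by group⟩
  rw [← QuotientGroup.eq_one_iff]
  show π (x * (k ^ i * l ^ j)⁻¹) = 1
  rw [map_mul, map_inv, map_mul, map_pow, map_pow, ← e]
  simp

/-- Powers of an element inducing a central multiplication. -/
theorem conj_pow_central {a b z : X} (hz : ∀ x, z * x = x * z) (h : a * b * a⁻¹ = z * b) (i : ℕ) :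
    a ^ i * b * (a ^ i)⁻¹ = z ^ i * b := by
  induction i with
  | zero => simp
  | succ i ih =>
    have hzi : ∀ x, z ^ i * x = x * z ^ i := fun x => ((show Commute z x from hz x).pow_left i).eq
    calc a ^ (i + 1) * b * (a ^ (i + 1))⁻¹ = a * (a ^ i * b * (a ^ i)⁻¹) * a⁻¹ := by rw [pow_succ']; group
      _ = a * (z ^ i * b) * a⁻¹ := by rw [ih]
      _ = z ^ i * (a * b * a⁻¹) := by rw [← mul_assoc a, ← hzi a]; group
      _ = z ^ (i + 1) * b := by rw [h, ← mul_assoc, ← pow_succ]

section Heis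

variable (hcard : Nat.card X = p ^ 3) (hnab : ¬ ∀ a b : X, a * b = b * a)
include hcard hnab

theorem heis_basic : Nat.card (Subgroup.center X) = p ∧ (Subgroup.center X).index = p ^ 2 ∧
    commutator X = Subgroup.center X ∧ ∀ x : X, x ^ p ∈ Subgroup.center X := by
  obtain ⟨⟨⟨-, -, -⟩, hZ⟩, hpow, hcomm⟩ := EssentialSmall.extraspecial_cube hcard hnab
  refine ⟨hZ, ?_, hcomm, hpow⟩
  have h := (Subgroup.center X).card_mul_index
  rw [hZ, hcard, show p ^ 3 = p * p ^ 2 by ring] at h
  exact Nat.eq_of_mul_eq_mul_left hp.out.pos h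

/-- A basis of a nonabelian group of order `p³`. -/
theorem heis_gen {k l : X} (hk : k ∉ Subgroup.center X) (hl : l ∉ Subgroup.center X ⊔ Subgroup.zpowers k) :
    k * l * k⁻¹ * l⁻¹ ∈ Subgroup.center X ∧ k * l * k⁻¹ * l⁻¹ ≠ 1 ∧
      ∀ n ∈ Subgroup.center X, ∃ i : ℕ, n = (k * l * k⁻¹ * l⁻¹) ^ i := by
  obtain ⟨hZ, hidx, hcomm, hpow⟩ := heis_basic hcard hnab
  have hmem : k * l * k⁻¹ * l⁻¹ ∈ Subgroup.center X := hcomm ▸
    Subgroup.commutator_mem_commutator (Subgroup.mem_top k) (Subgroup.mem_top l)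
  have hne : k * l * k⁻¹ * l⁻¹ ≠ 1 := by
    intro h
    have hkl : Commute k l := mul_inv_eq_iff_eq_mul.1 (mul_inv_eq_one.1 h)
    refine hk (Subgroup.mem_center_iff.2 fun x => ?_)
    obtain ⟨n, hn, i, j, rfl⟩ := decomp hidx hk hl x
    exact ((show Commute n k from (Subgroup.mem_center_iff.1 hn k).symm).mul_left
      (((Commute.refl k).pow_left i).mul_left (hkl.symm.pow_left j))).eq
  refine ⟨hmem, hne, fun n hn => ?_⟩
  have hgen : Subgroup.zpowers (k * l * k⁻¹ * l⁻¹) = Subgroup.center X := by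
    refine Subgroup.eq_of_le_of_card_ge (Subgroup.zpowers_le.2 hmem) ?_
    rw [hZ, Nat.card_zpowers]
    have hd : orderOf (k * l * k⁻¹ * l⁻¹) ∣ p := by
      have := (Subgroup.center X).orderOf_dvd_natCard hmem
      rwa [hZ] at this
    exact ((Nat.dvd_prime hp.out).1 hd).resolve_left (fun e => hne (orderOf_eq_one_iff.1 e)) |>.ge
  rw [← hgen] at hn
  obtain ⟨i, rfl⟩ := mem_powers_iff_mem_zpowers.2 hn
  exact ⟨i, rfl⟩

/-- Automorphisms act on the centre by the determinant of a diagonal action. -/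
theorem heis_det {k l : X} {β : MulAut X} {a b : ℕ}
    (hβk : (k ^ a)⁻¹ * β k ∈ Subgroup.center X) (hβl : (l ^ b)⁻¹ * β l ∈ Subgroup.center X) :
    β (k * l * k⁻¹ * l⁻¹) = (k * l * k⁻¹ * l⁻¹) ^ (a * b) := by
  obtain ⟨-, -, hcomm, -⟩ := heis_basic hcard hnab
  set z := k * l * k⁻¹ * l⁻¹ with hz
  have hzc : ∀ x, z * x = x * z := fun x => (Subgroup.mem_center_iff.1 (hcomm ▸
    Subgroup.commutator_mem_commutator (Subgroup.mem_top k) (Subgroup.mem_top l)) x).symm
  set n := (k ^ a)⁻¹ * β k with hn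
  set m := (l ^ b)⁻¹ * β l with hm
  have hnc : ∀ x, n * x = x * n := fun x => (Subgroup.mem_center_iff.1 hβk x).symm
  have hmc : ∀ x, m * x = x * m := fun x => (Subgroup.mem_center_iff.1 hβl x).symm
  have e1 : β k = k ^ a * n := by rw [hn, mul_inv_cancel_left]
  have e2 : β l = l ^ b * m := by rw [hm, mul_inv_cancel_left]
  rw [map_mul, map_mul, map_mul, map_inv, map_inv, e1, e2]
  have h1 : k * l * k⁻¹ = z * l := by rw [hz]; group
  have h2 := conj_pow_central hzc h1 a
  have h3 : k ^ a * l ^ b * (k ^ a)⁻¹ = z ^ (a * b) * l ^ b := by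
    rw [← conj_pow, h2, (show Commute (z ^ a) l from (show Commute z l from hzc l).pow_left a).mul_pow, ← pow_mul]
  calc k ^ a * n * (l ^ b * m) * (k ^ a * n)⁻¹ * (l ^ b * m)⁻¹
      = k ^ a * (n * (l ^ b * m) * n⁻¹) * (k ^ a)⁻¹ * m⁻¹ * (l ^ b)⁻¹ := by group
    _ = k ^ a * (l ^ b * m) * (k ^ a)⁻¹ * m⁻¹ * (l ^ b)⁻¹ := by rw [hnc, mul_inv_cancel_right]
    _ = k ^ a * l ^ b * (m * (k ^ a)⁻¹ * m⁻¹) * (l ^ b)⁻¹ := by group
    _ = k ^ a * l ^ b * (k ^ a)⁻¹ * (l ^ b)⁻¹ := by rw [hmc, mul_inv_cancel_right]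
    _ = z ^ (a * b) := by rw [h3, mul_inv_cancel_right]

/-- Automorphisms trivial modulo the centre fix the centre. -/
theorem heis_fix_center {β : MulAut X} (h : ∀ x, x⁻¹ * β x ∈ Subgroup.center X) :
    ∀ n ∈ Subgroup.center X, β n = n := by
  obtain ⟨hZ, hidx, -, -⟩ := heis_basic hcard hnab
  obtain ⟨k, hk⟩ : ∃ k, k ∉ Subgroup.center X := by
    by_contra hh
    push Not at hh
    exact hnab fun a b => Subgroup.mem_center_iff.1 (hh b) a
  obtain ⟨l, hl⟩ : ∃ l, l ∉ Subgroup.center X ⊔ Subgroup.zpowers k := by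
    by_contra hh
    push Not at hh
    refine hk (Subgroup.mem_center_iff.2 fun x => ?_)
    obtain ⟨c, hc, _, ⟨i, rfl⟩, rfl⟩ := Subgroup.mem_sup_of_normal_left.1 (hh x)
    exact ((show Commute c k from (Subgroup.mem_center_iff.1 hc k).symm).mul_left
      ((Commute.refl k).zpow_left i)).eq
  intro n hn
  obtain ⟨-, -, hgen⟩ := heis_gen hcard hnab hk hl
  obtain ⟨i, rfl⟩ := hgen n hn
  rw [map_pow, heis_det hcard hnab (a := 1) (b := 1) (by rw [pow_one]; exact h k) (by rw [pow_one]; exact h l),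
    mul_one, pow_one]

/-- Automorphisms trivial modulo the centre are inner. -/
theorem heis_inner {β : MulAut X} (h : ∀ x, x⁻¹ * β x ∈ Subgroup.center X) :
    ∃ u : X, ∀ x, β x = u * x * u⁻¹ := by
  obtain ⟨hZ, hidx, -, hpow⟩ := heis_basic hcard hnab
  have hfix := heis_fix_center hcard hnab h
  obtain ⟨k, hk⟩ : ∃ k, k ∉ Subgroup.center X := by
    by_contra hh
    push Not at hh
    exact hnab fun a b => Subgroup.mem_center_iff.1 (hh b) a
  obtain ⟨l, hl⟩ : ∃ l, l ∉ Subgroup.center X ⊔ Subgroup.zpowers k := by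
    by_contra hh
    push Not at hh
    refine hk (Subgroup.mem_center_iff.2 fun x => ?_)
    obtain ⟨c, hc, _, ⟨i, rfl⟩, rfl⟩ := Subgroup.mem_sup_of_normal_left.1 (hh x)
    exact ((show Commute c k from (Subgroup.mem_center_iff.1 hc k).symm).mul_left
      ((Commute.refl k).zpow_left i)).eq
  obtain ⟨hzm, -, hgen⟩ := heis_gen hcard hnab hk hl
  set z := k * l * k⁻¹ * l⁻¹ with hz
  have hzc : ∀ x, z * x = x * z := fun x => (Subgroup.mem_center_iff.1 hzm x).symm
  obtain ⟨a, ha⟩ := hgen _ (inv_mem (h k))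
  obtain ⟨b, hb⟩ := hgen _ (h l)
  have e1 : β k = (z ^ a)⁻¹ * k := by
    rw [← ha, inv_inv, (Subgroup.mem_center_iff.1 (h k) k).symm, mul_inv_cancel_left]
  have e2 : β l = z ^ b * l := by
    rw [← hb, (Subgroup.mem_center_iff.1 (h l) l).symm, mul_inv_cancel_left]
  have h1 : k * l * k⁻¹ = z * l := by rw [hz]; group
  have h2 : l * k * l⁻¹ = z⁻¹ * k := by rw [hz]; group
  have hzc' : ∀ x, z⁻¹ * x = x * z⁻¹ := fun x => ((show Commute z x from hzc x).inv_left).eq
  refine ⟨k ^ b * l ^ a, fun x => ?_⟩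
  obtain ⟨n, hn, i, j, rfl⟩ := decomp hidx hk hl x
  let γ : MulAut X := MulAut.conj (k ^ b * l ^ a)
  show β _ = γ _
  have gk : γ k = β k := by
    show k ^ b * l ^ a * k * (k ^ b * l ^ a)⁻¹ = _
    calc k ^ b * l ^ a * k * (k ^ b * l ^ a)⁻¹ = k ^ b * (l ^ a * k * (l ^ a)⁻¹) * (k ^ b)⁻¹ := by group
      _ = k ^ b * ((z⁻¹) ^ a * k) * (k ^ b)⁻¹ := by rw [conj_pow_central hzc' h2 a]
      _ = (z ^ a)⁻¹ * k := by
        rw [inv_pow, ← mul_assoc, (((show Commute z (k ^ b) from hzc _).pow_left a).inv_left).eq.symm,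
          mul_assoc ((z ^ a)⁻¹), ← pow_succ, mul_assoc, pow_succ', mul_inv_cancel_right]
      _ = β k := e1.symm
  have gl : γ l = β l := by
    show k ^ b * l ^ a * l * (k ^ b * l ^ a)⁻¹ = _
    calc k ^ b * l ^ a * l * (k ^ b * l ^ a)⁻¹ = k ^ b * l * (k ^ b)⁻¹ := by group
      _ = β l := by rw [conj_pow_central hzc h1 b, e2]
  have gn : γ n = n := by
    show _ * n * _ = n
    rw [Subgroup.mem_center_iff.1 hn, mul_inv_cancel_right]
  simp only [map_mul, map_pow, gk, gl, gn, hfix n hn]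

end Heis

/-- A derived subgroup of order at most `p³` forces regularity for `p ≥ 5`. -/
theorem r1_of_derived (hp5 : 5 ≤ p) (hX : IsPGroup p X) (h : Nat.card (commutator X) ≤ p ^ 3) :
    CfsgLib.Regular.R1 p X := by
  refine CfsgLib.Regular.r1_of_lowerCentralSeries hX ?_
  have key : ∀ i, (⊤ : Subgroup X).lowerCentralSeries (i + 1) ≠ ⊥ →
      Nat.card ((⊤ : Subgroup X).lowerCentralSeries (i + 1)) * p ^ i ≤ p ^ 3 := by
    intro i
    induction i with
    | zero => intro _; simpa [Subgroup.lowerCentralSeries_one, commutator_def] using h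
    | succ i ih =>
      intro hne
      have hne' : (⊤ : Subgroup X).lowerCentralSeries (i + 1) ≠ ⊥ := fun e => hne (by
        rw [Subgroup.lowerCentralSeries_succ, e, Subgroup.commutator_bot_left])
      set A := (⊤ : Subgroup X).lowerCentralSeries (i + 1)
      set B := (⊤ : Subgroup X).lowerCentralSeries (i + 1 + 1)
      have hBA : B ≤ A := Subgroup.lowerCentralSeries_antitone _ (Nat.le_succ _)
      have hlt : B < A := by
        refine lt_of_le_of_ne hBA fun e => hne ?_
        obtain ⟨n, hn⟩ := Subgroup.nilpotent_iff_lowerCentralSeries.1 hX.isNilpotent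
        have hst : ∀ j, (⊤ : Subgroup X).lowerCentralSeries (i + 1 + j) = A := by
          intro j
          induction j with
          | zero => rfl
          | succ j ihj =>
            rw [← add_assoc, Subgroup.lowerCentralSeries_succ, ihj, ← Subgroup.lowerCentralSeries_succ]
            exact e
        rw [show B = (⊤ : Subgroup X).lowerCentralSeries (i + 1 + n) by rw [hst]; exact e, eq_bot_iff, ← hn]
        exact Subgroup.lowerCentralSeries_antitone _ (Nat.le_add_left n _)
      obtain ⟨a, ha⟩ := IsPGroup.iff_card.1 (hX.to_subgroup A)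
      obtain ⟨b, hb⟩ := IsPGroup.iff_card.1 (hX.to_subgroup B)
      have hab : b < a := by
        have h1 : Nat.card B < Nat.card A :=
          Set.Finite.card_lt_card (Set.toFinite _) (SetLike.coe_ssubset_coe.2 hlt)
        rw [ha, hb] at h1
        exact (Nat.pow_lt_pow_iff_right hp.out.one_lt).1 h1
      refine le_trans ?_ (ih hne')
      rw [ha, hb, ← pow_add, ← pow_add]
      exact Nat.pow_le_pow_right hp.out.pos (by omega)
  by_contra hne
  obtain ⟨q, hq⟩ : ∃ q, p - 1 = q + 1 := ⟨p - 2, by omega⟩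
  rw [hq] at hne
  obtain ⟨b, hb⟩ := IsPGroup.iff_card.1 (hX.to_subgroup ((⊤ : Subgroup X).lowerCentralSeries (q + 1)))
  have hb0 : b ≠ 0 := fun e => hne (Subgroup.card_eq_one.1 (by rw [hb, e, pow_zero]))
  have := key q hne
  rw [hb, ← pow_add] at this
  have := (Nat.pow_le_pow_iff_right hp.out.one_lt).1 this
  omega

/-- A power of an element with order prime to `p`, by a power of `p`. -/
theorem exists_coprime_pow (f : X) : ∃ a : ℕ, (orderOf (f ^ p ^ a)).Coprime p := by
  obtain ⟨a, m, hm, ham⟩ := Nat.exists_eq_pow_mul_and_not_dvd (orderOf_pos f).ne' p hp.out.ne_one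
  refine ⟨a, ((hp.out.coprime_iff_not_dvd.2 hm).symm).coprime_dvd_left (orderOf_dvd_of_pow_eq_one ?_)⟩
  rw [← pow_mul, ← ham, pow_orderOf_eq_one]

/-- `2 ^ (p ^ a) ≡ 2` and the like. -/
theorem pow_pow_eq {x : X} (hx : x ^ p = 1) (c a : ℕ) : x ^ c ^ p ^ a = x ^ c := by
  have h : ((c ^ p ^ a : ℕ) : ZMod p) = (c : ZMod p) := by
    push_cast
    exact ZMod.pow_card_pow (c : ZMod p)
  rw [pow_eq_pow_mod (c ^ p ^ a) hx, pow_eq_pow_mod c hx, (ZMod.natCast_eq_natCast_iff' _ _ p).1 h]

end Cfsg.RankTwoResistant
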