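import Cfsg.Agent.Lib.Fusion.RankTwoResistant.GroupFacts
import Cfsg.Agent.Lib.Fusion.EssentialSmall.SLTwo
import Cfsg.Agent.Lib.Fusion.Alperin

/-!
An essential subgroup with a characteristic section of order `p²` detecting the automorphisms:
an inverting involution and a torus element extended to its normaliser.
-/

set_option autoImplicit false
set_option linter.unusedSectionVars false
set_option linter.style.haveILetI false

namespace Cfsg.RankTwoResistant

open Cfsg FusionSystem SmallCentre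

universe u

variable {Ω : Type u} [Group Ω] {S E : Subgroup Ω} [Finite S] {p : ℕ} [hp : Fact p.Prime] {F : FusionSystem S}

/-- Restriction of automorphisms to a characteristic subgroup. -/
def resD {X : Type*} [Group X] (D : Subgroup X) [D.Characteristic] : MulAut X →* MulAut D where
  toFun α :=
    { toFun := fun x => ⟨α x, CfsgLib.Small.apply_mem_of_char α x.2⟩
      invFun := fun x => ⟨α⁻¹ x, CfsgLib.Small.apply_mem_of_char α⁻¹ x.2⟩
      left_inv := fun x => Subtype.ext (MulAut.inv_apply_self _ α x)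
      right_inv := fun x => Subtype.ext (MulAut.apply_inv_self _ α x)
      map_mul' := fun x y => Subtype.ext (map_mul α (x : X) y) }
  map_one' := rfl
  map_mul' _ _ := rfl

@[simp] theorem coe_resD {X : Type*} [Group X] (D : Subgroup X) [D.Characteristic] (α : MulAut X) (x : D) :
    ((resD D α x : D) : X) = α x := rfl

/-- Automorphisms of a quotient by a characteristic subgroup. -/
def quotAut {X : Type*} [Group X] (N : Subgroup X) [N.Characteristic] : MulAut X →* MulAut (X ⧸ N) where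
  toFun e := QuotientGroup.congr _ _ e (Subgroup.characteristic_iff_map_eq.mp inferInstance e)
  map_one' := MulEquiv.ext fun x => QuotientGroup.induction_on x fun a => rfl
  map_mul' e e' := MulEquiv.ext fun x => QuotientGroup.induction_on x fun a => rfl

theorem quotAut_mk {X : Type*} [Group X] (N : Subgroup X) [N.Characteristic] (e : MulAut X) (x : X) :
    quotAut N e (QuotientGroup.mk x) = QuotientGroup.mk (e x) := rfl

/-- An element of the normaliser inducing an inner automorphism lies in the essential subgroup. -/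
theorem mem_of_inner (hE : F.IsEssential p E) {g : Ω} (hg : g ∈ S) {α : MulAut E}
    (he : ∀ x : E, ((α x : E) : Ω) = g * x * g⁻¹) (hα : α ∈ Inn E) : g ∈ E := by
  obtain ⟨u, rfl⟩ := hα
  have hz : (u : Ω)⁻¹ * g ∈ centralizerIn S E := by
    refine ⟨S.mul_mem (S.inv_mem (hE.1.1 u.2)) hg, Subgroup.mem_centralizer_iff.mpr fun y hy => ?_⟩
    have h1 : (u : Ω) * y * (u : Ω)⁻¹ = g * y * g⁻¹ := he ⟨y, hy⟩
    calc y * ((u : Ω)⁻¹ * g) = (u : Ω)⁻¹ * ((u : Ω) * y * (u : Ω)⁻¹) * g := by group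
      _ = (u : Ω)⁻¹ * g * y := by rw [h1]; group
  have := E.mul_mem u.2 (hE.1.centralizerIn_le_self hz)
  rwa [mul_inv_cancel_left] at this

/-- Normal `p`-subgroups of the automiser of an essential subgroup are inner. -/
theorem normal_le_inn (hS : IsPGroup p S) (hF : F.IsSaturated p) (hE : F.IsEssential p E)
    {K : Subgroup (F.autGroup E)} [K.Normal] (hK : IsPGroup p K) {a : F.autGroup E} (ha : a ∈ K) :
    (a : MulAut E) ∈ Inn E :=
  (hE.isRadical hS hF).2.le ⟨a, CfsgLib.le_pCore hK ha, rfl⟩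

/-- A normal `p`-subgroup of the automiser does not contain all automorphisms induced by `S`. -/
theorem false_of_normal (hS : IsPGroup p S) (hF : F.IsSaturated p) (hE : F.IsEssential p E)
    {K : Subgroup (F.autGroup E)} [K.Normal] (hK : IsPGroup p K)
    (hle : (autInducedBy S E).subgroupOf (F.autGroup E) ≤ K) : False := by
  obtain ⟨g, hg, hgE⟩ := EssentialSmall.exists_moved hS hF hE
  have hα : E.normalizerMonoidHom ⟨g, hg.2⟩ ∈ autInducedBy S E :=
    mem_autInducedBy_iff.mpr ⟨g, hg.1, hg.2, fun _ => rfl⟩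
  exact hgE (mem_of_inner hE hg.1 (fun _ => rfl) (normal_le_inn hS hF hE hK
    (a := ⟨_, autInducedBy_le_autGroup hE.1.1 hα⟩) (hle hα)))

/-- Conjugation action of the normaliser on `E`, as elements of the automiser. -/
def conjA (F : FusionSystem S) (E : Subgroup Ω) (hES : E ≤ S) : normalizerIn S E →* F.autGroup E where
  toFun m := ⟨E.normalizerMonoidHom ⟨m, m.2.2⟩,
    autInducedBy_le_autGroup hES (mem_autInducedBy_iff.mpr ⟨m, m.2.1, m.2.2, fun _ => rfl⟩)⟩
  map_one' := Subtype.ext (MulEquiv.ext fun x => Subtype.ext (by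
    show (1 : Ω) * x * 1⁻¹ = x; simp))
  map_mul' m n := Subtype.ext (MulEquiv.ext fun x => Subtype.ext (by
    show ((m : Ω) * n) * x * ((m : Ω) * n)⁻¹ = m * (n * x * (n : Ω)⁻¹) * (m : Ω)⁻¹
    group))

theorem conjA_apply (hES : E ≤ S) (m : normalizerIn S E) (x : E) :
    ((((conjA F E hES m : F.autGroup E) : MulAut E) x : E) : Ω) = m * x * (m : Ω)⁻¹ := rfl

/-- An automorphism normalising the automorphisms induced by `S` extends to the normaliser. -/
theorem exists_extension (hS : IsPGroup p S) (hF : F.IsSaturated p) (hE : F.IsEssential p E)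
    (hES : E ≤ S) (a : F.autGroup E)
    (ha : ∀ m, ((a * conjA F E hES m * a⁻¹ : F.autGroup E) : MulAut E) ∈ autInducedBy S E) :
    ∃ ψ ∈ F.autGroup (normalizerIn S E),
      (∀ e : E, ((ψ ⟨e, le_normalizerIn hES e.2⟩ : normalizerIn S E) : Ω) = (((a : MulAut E) e : E) : Ω)) ∧
      ∀ m, conjA F E hES (ψ m) = a * conjA F E hES m * a⁻¹ := by
  obtain ⟨φ, hφ, hr, hφe⟩ := F.exists_map_of_mem_autGroup hES a.2
  have hrec := hF.isReceptive_of_isFullyNormalized hS hE.2.1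
  obtain ⟨ψ, hψ, hψe⟩ := hrec.2 E φ hφ hr
  have hle : normalizerIn S E ≤ extender S E φ := fun m hm => by
    refine (mem_extender_iff (F.apply_mem hφ)).mpr ⟨hm.1, hm.2, ?_⟩
    obtain ⟨h, hhS, -, hh⟩ := mem_autInducedBy_iff.mp (ha ⟨m, hm⟩)
    refine ⟨h, hhS, fun x hx => ?_⟩
    rw [hφe, hφe, ← hh]
    refine congrArg Subtype.val ?_
    show (a : MulAut E) ⟨m * (x : Ω) * m⁻¹, hx⟩ = (a : MulAut E) (((conjA F E hES ⟨m, hm⟩ : F.autGroup E) : MulAut E) ((a : MulAut E)⁻¹ ((a : MulAut E) x)))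
    rw [MulAut.inv_apply_self]
    exact congrArg (a : MulAut E) (Subtype.ext rfl)
  have hres := F.restrict_mem hψ hle
  set ψ' := ψ.comp (Subgroup.inclusion hle) with hψ'
  have hval : ∀ (e : E), ψ' ⟨e, le_normalizerIn hES e.2⟩ = (((a : MulAut E) e : E) : Ω) := fun e =>
    (hψe e e.2 _).trans (hφe e)
  have hconj : ∀ (m : normalizerIn S E) (e : E),
      ψ' m * (((a : MulAut E) e : E) : Ω) * (ψ' m)⁻¹ =
        (((a : MulAut E) (((conjA F E hES m : F.autGroup E) : MulAut E) e) : E) : Ω) := by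
    intro m e
    rw [← hval, ← hval, ← map_inv, ← map_mul, ← map_mul]
    exact congrArg ψ' (Subtype.ext rfl)
  have hrange : ψ'.range = normalizerIn S E := by
    haveI : Finite (normalizerIn S E) := finite_normalizerIn
    have h1 : ψ'.range ≤ normalizerIn S E := by
      rintro _ ⟨m, rfl⟩
      refine ⟨F.apply_mem hres m, Subgroup.mem_normalizer_iff.mpr fun y => ⟨fun hy => ?_, fun hy => ?_⟩⟩
      · have := hconj m ((a : MulAut E)⁻¹ ⟨y, hy⟩)
        rw [MulAut.apply_inv_self] at this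
        rw [this]
        exact Subtype.coe_prop _
      · have := hconj m (((conjA F E hES m : F.autGroup E) : MulAut E)⁻¹ ((a : MulAut E)⁻¹ ⟨_, hy⟩))
        rw [MulAut.apply_inv_self, MulAut.apply_inv_self] at this
        rw [mul_left_cancel (mul_right_cancel this.symm)]
        exact Subtype.coe_prop _
    exact Subgroup.eq_of_le_of_card_ge h1
      (Nat.card_congr (MonoidHom.ofInjective (F.injective_of_mem hres)).toEquiv).le
  refine ⟨F.isoOf hres hrange, F.isoOf_mem_autGroup hres hrange, hval, fun m => Subtype.ext (MulEquiv.ext fun e => Subtype.ext ?_)⟩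
  have := hconj m ((a : MulAut E)⁻¹ e)
  rw [MulAut.apply_inv_self] at this
  exact this

theorem restrict_pow (hES : E ≤ S) {ψ : MulAut ↥(normalizerIn S E)} {a : MulAut E}
    (h : ∀ e : E, ((ψ ⟨e, le_normalizerIn hES e.2⟩ : normalizerIn S E) : Ω) = ((a e : E) : Ω)) :
    ∀ (n : ℕ) (e : E), (((ψ ^ n) ⟨e, le_normalizerIn hES e.2⟩ : normalizerIn S E) : Ω) = (((a ^ n) e : E) : Ω) := by
  intro n
  induction n with
  | zero => exact fun e => rfl
  | succ n ih =>
    intro e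
    rw [pow_succ, pow_succ, MulAut.mul_apply, MulAut.mul_apply, ← ih]
    congr 2
    exact Subtype.ext (h e)

theorem pow_restrict_eq_one (hES : E ≤ S) {ψ : MulAut ↥(normalizerIn S E)} {a : MulAut E}
    (h : ∀ e : E, ((ψ ⟨e, le_normalizerIn hES e.2⟩ : normalizerIn S E) : Ω) = ((a e : E) : Ω))
    {n : ℕ} (hn : ψ ^ n = 1) : a ^ n = 1 :=
  MulEquiv.ext fun e => Subtype.ext (by rw [← restrict_pow hES h n e, hn]; rfl)

/-- The data attached to an essential subgroup with a detecting section of order `p²`. -/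
structure Data (F : FusionSystem S) (p : ℕ) (E : Subgroup Ω) (hES : E ≤ S) (D : Subgroup E) [D.Characteristic]
    (N : Subgroup D) where
  k : D
  l : D
  g : normalizerIn S E
  τ : MulAut ↥(normalizerIn S E)
  δ : MulAut ↥(normalizerIn S E)
  τE : MulAut E
  δE : MulAut E
  k_not : k ∉ N
  l_not : l ∉ N ⊔ Subgroup.zpowers k
  g_not : (g : Ω) ∉ E
  cover : ∀ m : normalizerIn S E, ∃ i : ℕ, (((g ^ i)⁻¹ * m : normalizerIn S E) : Ω) ∈ E
  g_pow : ((g ^ p : normalizerIn S E) : Ω) ∈ E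
  card : Nat.card (normalizerIn S E) = Nat.card E * p
  inn : ∀ (e : E) (x y : D), (y : E) = e * (x : E) * e⁻¹ → x⁻¹ * y ∈ N
  act_k : ∀ y : D, ((y : E) : Ω) = (g : Ω) * ((k : E) : Ω) * (g : Ω)⁻¹ → k⁻¹ * y ∈ N
  act_l : ∀ y : D, ((y : E) : Ω) = (g : Ω) * ((l : E) : Ω) * (g : Ω)⁻¹ → (l * k)⁻¹ * y ∈ N
  τ_res : ∀ e : E, ((τ ⟨e, le_normalizerIn hES e.2⟩ : normalizerIn S E) : Ω) = ((τE e : E) : Ω)
  δ_res : ∀ e : E, ((δ ⟨e, le_normalizerIn hES e.2⟩ : normalizerIn S E) : Ω) = ((δE e : E) : Ω)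
  τ_sq : τE * τE = 1
  τ_fix : τ g = g
  τ_inv : ∀ x : D, x * resD D τE x ∈ N
  δ_coprime : (orderOf δE).Coprime p
  δ_mem : δE ∈ F.autGroup E
  δ_memN : δ ∈ F.autGroup (normalizerIn S E)
  δ_k : (k ^ 2)⁻¹ * resD D δE k ∈ N
  δ_l : (l ^ ((p + 1) / 2))⁻¹ * resD D δE l ∈ N
  δ_g : (((g ^ 4)⁻¹ * δ g : normalizerIn S E) : Ω) ∈ E

set_option maxHeartbeats 2000000 in
theorem exists_data (hp5 : 5 ≤ p) (hS : IsPGroup p S) (hF : F.IsSaturated p) (hE : F.IsEssential p E)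
    (hES : E ≤ S) (D : Subgroup E) [D.Characteristic] (N : Subgroup D) [N.Characteristic]
    (hidx : N.index = p ^ 2) (hexp : ∀ d : D, d ^ p = 1)
    (hdet : ∀ α : MulAut E, (orderOf α).Coprime p → (∀ d ∈ D, α d = d) → α = 1)
    (hfix : ∀ β : MulAut D, (∀ x, x⁻¹ * β x ∈ N) → ∀ n ∈ N, β n = n) :
    Nonempty (Data F p E hES D N) := by
  classical
  have hpp := hp.out
  haveI : Finite E := finite_of_le hES
  haveI := finite_autGroup (F := F) hES
  haveI : Finite (normalizerIn S E) := finite_normalizerIn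
  have hpE : IsPGroup p E := hS.to_le hES
  have hWc : Nat.card (D ⧸ N) = p ^ 2 := by rw [← Subgroup.index_eq_card, hidx]
  have hWe : ∀ w : D ⧸ N, w ^ p = 1 := fun w => by
    obtain ⟨x, rfl⟩ := QuotientGroup.mk_surjective w
    rw [← QuotientGroup.mk_pow, hexp]; rfl
  have hWp : IsPGroup p (D ⧸ N) := IsPGroup.of_card hWc
  have hcomm : ∀ a b : D ⧸ N, a * b = b * a := IsPGroup.commutative_of_card_eq_prime_sq hWc
  letI : CommGroup (D ⧸ N) := { (inferInstance : Group (D ⧸ N)) with mul_comm := hcomm }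
  set A := F.autGroup E with hA
  let ρ : A →* MulAut (D ⧸ N) := ((quotAut N).comp (resD D)).comp A.subtype
  have hρ : ∀ (a : A) (x : D), ρ a (QuotientGroup.mk x) = QuotientGroup.mk (resD D (a : MulAut E) x) :=
    fun _ _ => rfl
  -- the kernel is inner
  have hKp : IsPGroup p ρ.ker := by
    rintro ⟨a, ha⟩
    obtain ⟨i, hi⟩ := exists_coprime_pow (p := p) (a : MulAut E)
    refine ⟨i, Subtype.ext (Subtype.ext (hdet _ hi fun d hd => ?_))⟩
    have hb : ∀ x : D, x⁻¹ * resD D ((a : MulAut E) ^ p ^ i) x ∈ N := fun x => by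
      have h1 : ρ (a ^ p ^ i) (QuotientGroup.mk x) = QuotientGroup.mk x := by
        rw [map_pow, MonoidHom.mem_ker.mp ha, one_pow]; rfl
      exact QuotientGroup.eq.mp h1.symm
    have hco : (orderOf (resD D ((a : MulAut E) ^ p ^ i))).Coprime p :=
      hi.coprime_dvd_left (orderOf_map_dvd (resD D) _)
    exact congrArg Subtype.val (CfsgLib.Small.apply_eq_self_of_step (hpE.to_subgroup D) hco (x := ⟨d, hd⟩)
      (hfix _ hb _ (hb _)))
  have hKinn : ∀ a : A, ρ a = 1 → (a : MulAut E) ∈ Inn E := fun a ha => normal_le_inn hS hF hE hKp ha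
  -- the image of the automorphisms induced by `S`
  set AS := (autInducedBy S E).subgroupOf A with hAS
  obtain ⟨-, T, hT⟩ := hF.isFullyAutomized_of_isFullyNormalized hS hE.2.1
  let T' : Sylow p ρ.range := T.mapSurjective ρ.rangeRestrict_surjective
  set R := AS.map ρ with hR
  have hASp : IsPGroup p AS := (isPGroup_autInducedBy hS).comap_of_injective A.subtype Subtype.coe_injective
  have hRp : IsPGroup p R := hASp.map ρ
  have hnormal : ¬ (∀ a : A, ∀ r ∈ R, ρ a * r * (ρ a)⁻¹ ∈ R) := by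
    intro hh
    haveI : (R.comap ρ).Normal := ⟨fun x hx a => by
      show ρ (a * x * a⁻¹) ∈ R
      rw [map_mul, map_mul, map_inv]; exact hh a _ hx⟩
    exact false_of_normal hS hF hE (hRp.comap_of_ker_isPGroup ρ hKp) (Subgroup.le_comap_map ρ AS)
  have hR1 : R ≠ ⊥ := fun e => hnormal fun a r hr => by
    rw [e, Subgroup.mem_bot] at hr
    rw [hr, mul_one, mul_inv_cancel]; exact one_mem _
  have hRA : R ≤ ρ.range := Subgroup.map_le_range ρ AS
  obtain ⟨z, hz1, hzidx, hzfix, hzrange⟩ := exists_line hRp hWc hWe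
  have hmax : ∀ U : Subgroup (MulAut (D ⧸ N)), U ≤ ρ.range → IsPGroup p U →
      ∃ ψ ∈ ρ.range, ∀ u ∈ U, ψ * u * ψ⁻¹ ∈ R := by
    intro U hU hUp
    obtain ⟨a, ha⟩ := exists_conj_mem_sylow T' (X := U.subgroupOf ρ.range)
      (hUp.comap_of_injective ρ.range.subtype Subtype.coe_injective)
    refine ⟨a, a.2, fun u hu => ?_⟩
    obtain ⟨t, ht, e⟩ := ha ⟨u, hU hu⟩ hu
    exact ⟨t, hT.le ht, congrArg Subtype.val e⟩
  have hnot : ∃ φ ∈ ρ.range, ∃ r ∈ R, φ * r * φ⁻¹ ∉ R := by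
    by_contra hh
    push Not at hh
    exact hnormal fun a r hr => hh _ ⟨a, rfl⟩ r hr
  have hstab : R ≤ stab (Subgroup.zpowers z) (Subgroup.zpowers z) le_rfl := by
    intro r hr
    have hf : ∀ x ∈ Subgroup.zpowers z, r x = x := by
      rintro _ ⟨i, rfl⟩
      show r (z ^ i) = z ^ i
      rw [map_zpow, hzfix r hr]
    exact ⟨hf, fun x hx => by rw [hf x hx]; simp, hzrange r hr⟩
  obtain ⟨c, k, hRc, h⟩ := exists_tv_of_axis hWp hcomm hzidx hRA hRp hstab hR1 hmax hnot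
  set Z := Subgroup.zpowers z with hZ
  have hZk : Z = Subgroup.zpowers k := by
    refine (Subgroup.eq_of_le_of_card_ge (Subgroup.zpowers_le.mpr h.kZ) (le_of_eq ?_)).symm
    rw [hZ, Nat.card_zpowers, Nat.card_zpowers, h.korder, orderOf_eq_prime (hWe z) hz1]
  obtain ⟨φ, hφ, hφZ⟩ := h.exists_moving
  set l := φ k with hl
  have hlZ : l ∉ Z := h.apply_k_not_mem hφ hφZ
  have hkl : φ⁻¹ k ∉ Z := fun hh =>
    h.k_not_mem hφ hφZ (Subgroup.mem_map.mpr ⟨φ⁻¹ k, hh, MulAut.apply_inv_self _ _ _⟩)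
  have hext : ∀ α β : MulAut (D ⧸ N), α k = β k → α l = β l → α = β := fun α β h1 h2 => MulEquiv.ext fun e => by
    obtain ⟨y, hy, b, rfl⟩ := h.decomp_top h.idx hlZ e
    rw [hZk] at hy
    obtain ⟨i, rfl⟩ := hy
    simp only [map_mul, map_zpow, h1, h2]
  have hU : ∀ i : ℤ, ∃ u ∈ Subgroup.zpowers c, u k = k ∧ u l = l * k ^ i := fun i => by
    obtain ⟨u, hu, hul⟩ := h.exists_pow_apply hlZ i
    exact ⟨u, hu, h.pow_fix hu h.kZ, hul⟩
  have hV : ∀ i : ℤ, ∃ v ∈ ρ.range, v k = k * l ^ i ∧ v l = l := fun i => by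
    obtain ⟨v, hv, hvk⟩ := h.exists_pow_apply hkl i
    refine ⟨φ * v * φ⁻¹, mul_mem (mul_mem hφ (Subgroup.zpowers_le.mpr h.cA hv)) (inv_mem hφ), ?_, ?_⟩
    · show φ (v (φ⁻¹ k)) = _
      rw [hvk, map_mul, MulAut.apply_inv_self, map_zpow]
    · show φ (v (φ⁻¹ (φ k))) = φ k
      rw [MulAut.inv_apply_self, h.pow_fix hv h.kZ]
  have hk1 : k ≠ 1 := fun e => by
    have := h.korder
    rw [e, orderOf_one] at this
    exact hpp.one_lt.ne this
  -- the canonical generator of the image of `S`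
  obtain ⟨u₁, hu₁, hu₁k, hu₁l⟩ := hU 1
  rw [zpow_one] at hu₁l
  have hu₁p : u₁ ^ p = 1 := by
    have : ∀ n : ℕ, (u₁ ^ n) k = k ∧ (u₁ ^ n) l = l * k ^ n := by
      intro n
      induction n with
      | zero => simp
      | succ n ih =>
        refine ⟨by rw [pow_succ, MulAut.mul_apply, hu₁k, ih.1], ?_⟩
        rw [pow_succ, MulAut.mul_apply, hu₁l, map_mul, ih.1, ih.2, mul_assoc, ← pow_succ]
    exact hext _ _ (this p).1 ((this p).2.trans (by rw [hWe, mul_one]; rfl))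
  have hu₁1 : u₁ ≠ 1 := fun e => hk1 (by rw [e, MulAut.one_apply] at hu₁l; exact left_eq_mul.mp hu₁l)
  have hcp : Nat.card R ≤ p := card_autSub_le hRp hWc hWe
  have hu₁R : u₁ ∈ R := hRc ▸ hu₁
  have hRu : R = Subgroup.zpowers u₁ := by
    refine (Subgroup.eq_of_le_of_card_ge (Subgroup.zpowers_le.mpr hu₁R) ?_).symm
    rw [Nat.card_zpowers, orderOf_eq_prime hu₁p hu₁1]; exact hcp
  have hRcard : Nat.card R = p := by rw [hRu, Nat.card_zpowers, orderOf_eq_prime hu₁p hu₁1]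
  -- inner automorphisms act trivially on the section
  haveI hIn : ((Inn E).subgroupOf A).Normal := hE.2.2.1
  have hinn : ∀ a : A, (a : MulAut E) ∈ Inn E → ρ a = 1 := by
    have hle : ((Inn E).subgroupOf A).map ρ ≤ R :=
      Subgroup.map_mono fun a ha => inn_le_autInducedBy hES ha
    have hd : Nat.card (((Inn E).subgroupOf A).map ρ) ∣ p := hRcard ▸ Subgroup.card_dvd_of_le hle
    rcases (Nat.dvd_prime hpp).mp hd with h1 | h1
    · intro a ha
      have : ρ a ∈ ((Inn E).subgroupOf A).map ρ := ⟨a, ha, rfl⟩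
      rwa [Subgroup.eq_bot_of_card_eq _ h1, Subgroup.mem_bot] at this
    · refine absurd (fun a r hr => ?_) hnormal
      have e := Subgroup.eq_of_le_of_card_ge hle (by rw [h1, hRcard])
      rw [← e] at hr ⊢
      obtain ⟨b, hb, rfl⟩ := hr
      exact ⟨a * b * a⁻¹, hIn.conj_mem b hb a, by rw [map_mul, map_mul, map_inv]⟩
  -- the action of the normaliser
  let π : normalizerIn S E →* MulAut (D ⧸ N) := ρ.comp (conjA F E hES)
  have hπE : ∀ m : normalizerIn S E, π m = 1 ↔ (m : Ω) ∈ E := fun m => by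
    refine ⟨fun hm => mem_of_inner hE m.2.1 (fun x => conjA_apply hES m x) (hKinn _ hm), fun hm => hinn _ ?_⟩
    exact ⟨⟨m, hm⟩, MulEquiv.ext fun x => Subtype.ext rfl⟩
  have hπR : π.range = R := by
    refine le_antisymm ?_ ?_
    · rintro _ ⟨m, rfl⟩
      exact ⟨_, mem_autInducedBy_iff.mpr ⟨m, m.2.1, m.2.2, fun _ => rfl⟩, rfl⟩
    · rintro _ ⟨a, ha, rfl⟩
      obtain ⟨m, hm, hmn, hme⟩ := mem_autInducedBy_iff.mp ha
      exact ⟨⟨m, hm, hmn⟩, congrArg ρ (Subtype.ext (MulEquiv.ext fun x => Subtype.ext (hme x).symm))⟩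
  obtain ⟨g₀, hg₀⟩ : u₁ ∈ π.range := hπR ▸ hu₁R
  have hcard : Nat.card (normalizerIn S E) = Nat.card E * p := by
    rw [← π.ker.card_mul_index, Subgroup.index_ker, hπR, hRcard]
    congr 1
    exact Nat.card_congr
      { toFun := fun m => ⟨m.1.1, (hπE m.1).mp m.2⟩
        invFun := fun e => ⟨⟨e, le_normalizerIn hES e.2⟩, (hπE _).mpr e.2⟩
        left_inv := fun _ => rfl
        right_inv := fun _ => rfl }
  -- extensions of elements normalising the image of `S`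
  have hlift : ∀ a : A, Z.map (ρ a).toMonoidHom = Z →
      ∀ m, ((a * conjA F E hES m * a⁻¹ : A) : MulAut E) ∈ autInducedBy S E := by
    intro a haZ m
    have hm : π m ∈ Subgroup.zpowers c := hRc ▸ hπR ▸ ⟨m, rfl⟩
    obtain ⟨i, hi⟩ := hm
    have h1 : ρ (a * conjA F E hES m * a⁻¹) ∈ R := by
      rw [map_mul, map_mul, map_inv, show ρ (conjA F E hES m) = c ^ i from hi.symm, ← conj_zpow, hRc]
      exact Subgroup.zpow_mem _ ((h.conj_c_mem_iff ⟨a, rfl⟩).mpr haZ) i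
    obtain ⟨b, hb, hbe⟩ := h1
    have h2 := inn_le_autInducedBy hES (hKinn (b⁻¹ * (a * conjA F E hES m * a⁻¹))
      (by rw [map_mul, map_inv, hbe, inv_mul_cancel]))
    have := (autInducedBy S E).mul_mem hb h2
    simpa using this
  have hmapZ : ∀ (a : A) (i : ℕ), ρ a k = k ^ i → Z.map (ρ a).toMonoidHom = Z := by
    intro a i hi
    refine Subgroup.eq_of_le_of_card_ge ?_ (Nat.card_congr (Z.equivMapOfInjective _ (ρ a).injective).toEquiv).le
    rw [hZk, MonoidHom.map_zpowers, Subgroup.zpowers_le]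
    exact ⟨(i : ℤ), by show k ^ (i : ℤ) = ρ a k; rw [zpow_natCast, hi]⟩
  -- the inverting involution
  obtain ⟨w, hw, -, hwk, hwl⟩ := h.exists_weyl hφ hφZ
  obtain ⟨a₀, ha₀⟩ : w * w ∈ ρ.range := mul_mem hw hw
  have ha₀k : ρ a₀ k = k⁻¹ := by rw [ha₀, MulAut.mul_apply, hwk, map_inv, hwl]
  have ha₀l : ρ a₀ l = l⁻¹ := by rw [ha₀, MulAut.mul_apply, hwl, hwk]
  have hkinv : k⁻¹ = k ^ (p - 1) := inv_eq_of_mul_eq_one_right (by
    rw [← pow_succ', Nat.sub_add_cancel hpp.one_lt.le, hWe])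
  obtain ⟨ψ₀, -, hψ₀, hψ₀c⟩ := exists_extension hS hF hE hES a₀ (hlift a₀ (hmapZ a₀ _ (ha₀k.trans hkinv)))
  obtain ⟨s, m, hm, hsm⟩ := Nat.exists_eq_pow_mul_and_not_dvd (orderOf_pos ψ₀).ne' 2 (by norm_num)
  set τE := (a₀ : MulAut E) ^ m with hτE
  have hτs : (ψ₀ ^ m) ^ 2 ^ s = 1 := by rw [← pow_mul, mul_comm, ← hsm, pow_orderOf_eq_one]
  have hτres := restrict_pow hES hψ₀ m
  have hinvW : ∀ x : D ⧸ N, ρ a₀ x = x⁻¹ := fun x => by
    obtain ⟨y, hy, b, rfl⟩ := h.decomp_top h.idx hlZ x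
    rw [hZk] at hy
    obtain ⟨i, rfl⟩ := hy
    simp only [map_mul, map_zpow, ha₀k, ha₀l, inv_zpow, mul_inv_rev, mul_comm]
  have hρ2 : ρ a₀ * ρ a₀ = 1 := MulEquiv.ext fun x => by
    rw [MulAut.mul_apply, hinvW, hinvW, inv_inv, MulAut.one_apply]
  have hρm : ρ a₀ ^ m = ρ a₀ := by
    obtain ⟨t, rfl⟩ : Odd m := Nat.not_even_iff_odd.mp fun he => hm he.two_dvd
    rw [pow_succ, pow_mul, pow_two, hρ2, one_pow, one_mul]
  have hτsq : τE * τE = 1 := by
    have h1 : ρ (a₀ ^ m * a₀ ^ m) = 1 := by rw [map_mul, map_pow, hρm, hρ2]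
    obtain ⟨u, hu⟩ := hKinn _ h1
    have hu' : MulAut.conj u = τE * τE := hu
    obtain ⟨j, hj⟩ := hpE u
    have h3 : (τE * τE) ^ p ^ j = 1 := by rw [← hu', ← map_pow, hj, map_one]
    have h4 : (τE * τE) ^ 2 ^ s = 1 := by
      rw [(Commute.refl τE).mul_pow, pow_restrict_eq_one hES hτres hτs, one_mul]
    have h5 := pow_gcd_eq_one.mpr ⟨h3, h4⟩
    rwa [Nat.Coprime.pow j s ((Nat.coprime_primes hpp Nat.prime_two).mpr (by omega)), pow_one] at h5
  have hτW : ∀ x : D, ρ (a₀ ^ m) (QuotientGroup.mk x) = (QuotientGroup.mk x)⁻¹ := fun x => by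
    rw [map_pow, hρm, hinvW]
  -- adjust the generator
  have hπτ : ∀ n, π ((ψ₀ ^ n) g₀) = ρ a₀ ^ n * u₁ * (ρ a₀ ^ n)⁻¹ := by
    intro n
    induction n with
    | zero => simpa using hg₀
    | succ n ih =>
      rw [pow_succ', MulAut.mul_apply]
      show ρ (conjA F E hES (ψ₀ _)) = _
      rw [hψ₀c, map_mul, map_mul, map_inv, show ρ (conjA F E hES ((ψ₀ ^ n) g₀)) = _ from ih, pow_succ']
      group
  have hcommu : ρ a₀ * u₁ * (ρ a₀)⁻¹ = u₁ := by
    rw [mul_inv_eq_iff_eq_mul]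
    refine hext _ _ ?_ ?_
    · rw [MulAut.mul_apply, MulAut.mul_apply, hu₁k, hinvW, map_inv, hu₁k]
    · rw [MulAut.mul_apply, MulAut.mul_apply, hu₁l, hinvW, hinvW, map_inv, hu₁l]
  set τ := ψ₀ ^ m with hτ
  obtain ⟨e, he⟩ : ∃ e : E, τ g₀ = g₀ * ⟨e, le_normalizerIn hES e.2⟩ := by
    have h1 : π (g₀⁻¹ * τ g₀) = 1 := by
      rw [map_mul, map_inv, hπτ, hρm, hcommu, hg₀, inv_mul_cancel]
    exact ⟨⟨_, (hπE _).mp h1⟩, (mul_inv_cancel_left g₀ (τ g₀)).symm⟩
  have hτe : ∀ e : E, τ ⟨e, le_normalizerIn hES e.2⟩ = ⟨τE e, le_normalizerIn hES (τE e).2⟩ :=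
    fun e => Subtype.ext (hτres e)
  set y := e * τE e with hy
  have hττ : ∀ x : E, τE (τE x) = x := fun x => by rw [← MulAut.mul_apply, hτsq, MulAut.one_apply]
  have hy1 : y = 1 := by
    have h2 : τ (τ g₀) = g₀ * ⟨y, le_normalizerIn hES y.2⟩ := by
      rw [he, map_mul, he, hτe, mul_assoc]; rfl
    have hy' : τ (τ ⟨y, le_normalizerIn hES y.2⟩) = ⟨y, le_normalizerIn hES y.2⟩ := by
      rw [hτe, hτe]; exact Subtype.ext (congrArg (fun z : E => (z : Ω)) (hττ y))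
    have h3 : ∀ n : ℕ, ((τ * τ) ^ n) g₀ = g₀ * (⟨y, le_normalizerIn hES y.2⟩ : normalizerIn S E) ^ n := by
      intro n
      induction n with
      | zero => simp
      | succ n ih =>
        rw [pow_succ', MulAut.mul_apply, MulAut.mul_apply, ih, map_mul, map_mul, map_pow, map_pow, hy', h2,
          mul_assoc, ← pow_succ']
    have h4 := h3 (2 ^ s)
    rw [(Commute.refl τ).mul_pow, hτs, one_mul, MulAut.one_apply, left_eq_mul] at h4
    have h5 : y ^ 2 ^ s = 1 := Subtype.ext (by simpa using congrArg Subtype.val h4)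
    obtain ⟨j, hj⟩ := hpE y
    have h6 := pow_gcd_eq_one.mpr ⟨hj, h5⟩
    rwa [Nat.Coprime.pow j s ((Nat.coprime_primes hpp Nat.prime_two).mpr (by omega)), pow_one] at h6
  have hτinv : τE e = e⁻¹ := eq_inv_of_mul_eq_one_right hy1
  obtain ⟨n, hn⟩ : ∃ n : ℕ, e ^ n * e ^ n = e := by
    obtain ⟨q, hq⟩ := IsPGroup.iff_orderOf.mp hpE e
    obtain ⟨t, ht⟩ : Odd (orderOf e) := hq ▸ (hpp.odd_of_ne_two (by omega)).pow
    refine ⟨t + 1, ?_⟩
    rw [← pow_add, show t + 1 + (t + 1) = orderOf e + 1 by omega, pow_succ, pow_orderOf_eq_one, one_mul]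
  set g := g₀ * ⟨(e ^ n : E), le_normalizerIn hES (e ^ n).2⟩ with hg
  have hτg : τ g = g := by
    rw [hg, map_mul, he, hτe, map_pow, hτinv, mul_assoc]
    congr 1
    have h' : e * e⁻¹ ^ n = e ^ n := by
      nth_rewrite 1 [← hn]
      rw [inv_pow, mul_inv_cancel_right]
    exact Subtype.ext (congrArg (fun z : E => (z : Ω)) h')
  have hπg : π g = u₁ := by rw [hg, map_mul, hg₀, (hπE _).mpr (e ^ n).2, mul_one]
  -- the torus element
  set d := (p + 1) / 2 with hd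
  have h2d : ∀ x : D ⧸ N, x ^ (d : ℤ) * x ^ (d : ℤ) = x := fun x => by
    obtain ⟨t, ht⟩ := hpp.odd_of_ne_two (show p ≠ 2 by omega)
    rw [zpow_natCast, ← pow_add, show d + d = p + 1 by omega, pow_succ, hWe, one_mul]
  obtain ⟨uh, huh, huhk, huhl⟩ := hU (-(d : ℤ))
  obtain ⟨v₁, hv₁, hv₁k, hv₁l⟩ := hV 1
  obtain ⟨vh, hvh, hvhk, hvhl⟩ := hV (-(d : ℤ))
  rw [zpow_one] at hv₁k
  have hcA := Subgroup.zpowers_le.mpr h.cA
  obtain ⟨a₁, ha₁⟩ : vh * u₁ * v₁ * uh ∈ ρ.range := mul_mem (mul_mem (mul_mem hvh (hcA hu₁)) hv₁) (hcA huh)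
  have hk2 := h2d k
  have hl2 := h2d l
  set K := k ^ (d : ℤ) with hK
  set L := l ^ (d : ℤ) with hL
  rw [zpow_neg, ← hK] at huhl
  rw [zpow_neg, ← hL] at hvhk
  have hu₁K : u₁ K = K := by rw [hK, map_zpow, hu₁k]
  have hu₁L : u₁ L = L * K := by rw [hL, hK, map_zpow, hu₁l, mul_zpow]
  have hv₁K : v₁ K = K * L := by rw [hK, hL, map_zpow, hv₁k, mul_zpow]
  have ha₁k : ρ a₁ k = k ^ 2 := by
    rw [ha₁]
    simp only [MulAut.mul_apply, huhk, hv₁k, map_mul, hu₁k, hu₁l, hvhk, hvhl]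
    rw [pow_two]
    calc k * L⁻¹ * (l * (k * L⁻¹)) = k * k * (l * (L * L)⁻¹) := by rw [mul_inv]; ac_rfl
      _ = k * k := by rw [hl2, mul_inv_cancel, mul_one]
  have hvhK : vh K = K * (L ^ (d : ℤ))⁻¹ := by rw [hK, map_zpow, hvhk, mul_zpow, inv_zpow]
  have hvhL : vh L = L := by rw [hL, map_zpow, hvhl]
  have ha₁l : ρ a₁ l = l ^ d := by
    rw [ha₁]
    simp only [MulAut.mul_apply, huhl, map_mul, map_inv, hv₁l, hv₁K, hu₁l, hu₁K, hu₁L, hvhk, hvhl, hvhK, hvhL]
    rw [← zpow_natCast l d, ← hL]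
    have hkK : k * L⁻¹ = K * (L ^ (d : ℤ))⁻¹ * (K * (L ^ (d : ℤ))⁻¹) := by
      calc k * L⁻¹ = K * K * (L ^ (d : ℤ) * L ^ (d : ℤ))⁻¹ := by rw [hk2, h2d L]
        _ = _ := by rw [mul_inv]; ac_rfl
    rw [hkK]
    conv_lhs => rw [← hl2]
    rw [mul_inv_eq_iff_eq_mul]
    ac_rfl
  obtain ⟨ψ₁, hψ₁m, hψ₁, hψ₁c⟩ := exists_extension hS hF hE hES a₁ (hlift a₁ (hmapZ a₁ 2 ha₁k))
  obtain ⟨r, hr⟩ := exists_coprime_pow (p := p) ψ₁
  have hδres := restrict_pow hES hψ₁ (p ^ r)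
  have hpow : ∀ (c : ℕ) (x : D ⧸ N), ρ a₁ x = x ^ c → ρ (a₁ ^ p ^ r) x = x ^ c := by
    intro c x hx
    have : ∀ t : ℕ, (ρ a₁ ^ t) x = x ^ c ^ t := by
      intro t
      induction t with
      | zero => simp
      | succ t ih => rw [pow_succ, MulAut.mul_apply, hx, map_pow, ih, ← pow_mul, ← pow_succ]
    rw [map_pow, this, pow_pow_eq (hWe x)]
  set b := a₁ ^ p ^ r with hb
  have hbk : ρ b k = k ^ 2 := hpow 2 k ha₁k
  have hbl : ρ b l = l ^ d := hpow d l ha₁l
  have hδπ : π ((ψ₁ ^ p ^ r) g) = u₁ ^ 4 := by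
    have h1 : ∀ t, π ((ψ₁ ^ t) g) = ρ a₁ ^ t * u₁ * (ρ a₁ ^ t)⁻¹ := by
      intro t
      induction t with
      | zero => simpa using hπg
      | succ t ih =>
        rw [pow_succ', MulAut.mul_apply]
        show ρ (conjA F E hES (ψ₁ _)) = _
        rw [hψ₁c, map_mul, map_mul, map_inv, show ρ (conjA F E hES ((ψ₁ ^ t) g)) = _ from ih, pow_succ']
        group
    rw [h1, ← map_pow, ← hb, mul_inv_eq_iff_eq_mul]
    have hu4 : (u₁ ^ 4) k = k ∧ (u₁ ^ 4) l = l * k ^ 4 := by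
      simp only [pow_succ, pow_zero, one_mul, MulAut.mul_apply, hu₁k, hu₁l, map_mul, mul_assoc, and_self]
    refine hext _ _ ?_ ?_
    · rw [MulAut.mul_apply, MulAut.mul_apply, hu₁k, hbk, map_pow, hu4.1]
    · rw [MulAut.mul_apply, MulAut.mul_apply, hu₁l, map_mul, hbk, hbl, map_pow, hu4.2, mul_pow, ← pow_mul]
      congr 1
      rw [pow_eq_pow_mod (4 * d) (hWe k)]
      obtain ⟨t, ht⟩ := hpp.odd_of_ne_two (show p ≠ 2 by omega)
      rw [show 4 * d = 2 + p * 2 by omega, Nat.add_mul_mod_self_left, ← pow_eq_pow_mod 2 (hWe k)]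
  obtain ⟨k₀, hk₀⟩ := QuotientGroup.mk_surjective k
  obtain ⟨l₀, hl₀⟩ := QuotientGroup.mk_surjective l
  have hπg_app : ∀ (x y : D), ((y : E) : Ω) = (g : Ω) * ((x : E) : Ω) * (g : Ω)⁻¹ →
      (QuotientGroup.mk y : D ⧸ N) = u₁ (QuotientGroup.mk x) := fun x y hxy => by
    rw [← hπg]
    exact congrArg QuotientGroup.mk (Subtype.ext (Subtype.ext hxy))
  refine ⟨{
    k := k₀
    l := l₀
    g := g
    τ := τ
    δ := ψ₁ ^ p ^ r
    τE := τE
    δE := (a₁ : MulAut E) ^ p ^ r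
    k_not := fun hk => hk1 (by rw [← hk₀]; exact (QuotientGroup.eq_one_iff _).mpr hk)
    l_not := fun hl' => hlZ (by
      have := Subgroup.mem_map_of_mem (QuotientGroup.mk' N) hl'
      rw [Subgroup.map_sup, QuotientGroup.map_mk'_self, bot_sup_eq, MonoidHom.map_zpowers] at this
      rw [hZk, ← hk₀, ← hl₀]; exact this)
    g_not := fun hgE => hu₁1 (hπg ▸ (hπE g).mpr hgE)
    cover := fun m' => by
      have hm' : π m' ∈ Subgroup.zpowers u₁ := hRu ▸ hπR ▸ ⟨m', rfl⟩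
      obtain ⟨i, hi⟩ := mem_powers_iff_mem_zpowers.2 hm'
      refine ⟨i, (hπE _).mp ?_⟩
      rw [map_mul, map_inv, map_pow, hπg, inv_mul_eq_one]
      exact hi
    g_pow := (hπE _).mp (by rw [map_pow, hπg, hu₁p])
    card := hcard
    inn := fun e x y hxy => ?_
    act_k := fun y hy => ?_
    act_l := fun y hy => ?_
    τ_res := hτres
    δ_res := hδres
    τ_sq := hτsq
    τ_fix := hτg
    τ_inv := fun x => ?_
    δ_coprime := hr.coprime_dvd_left (orderOf_dvd_of_pow_eq_one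
      (pow_restrict_eq_one hES hδres (pow_orderOf_eq_one _)))
    δ_mem := pow_mem a₁.2 _
    δ_memN := pow_mem hψ₁m _
    δ_k := ?_
    δ_l := ?_
    δ_g := (hπE _).mp (by rw [map_mul, map_inv, map_pow, hπg, hδπ, inv_mul_cancel]) }⟩
  · rw [← QuotientGroup.eq]
    have := congrArg (fun f : MulAut (D ⧸ N) => f (QuotientGroup.mk x))
      (hinn ⟨MulAut.conj e, inn_le_autGroup hES ⟨e, rfl⟩⟩ ⟨e, rfl⟩)
    simp only [hρ, MulAut.one_apply] at this
    rw [← this]
    exact congrArg QuotientGroup.mk (Subtype.ext (by rw [coe_resD, hxy]; rfl))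
  · rw [← QuotientGroup.eq, hπg_app k₀ y hy, hk₀, hu₁k]
  · rw [← QuotientGroup.eq, QuotientGroup.mk_mul, hπg_app l₀ y hy, hl₀, hk₀, hu₁l]
  · rw [← QuotientGroup.eq_one_iff, QuotientGroup.mk_mul]
    show QuotientGroup.mk x * ρ (a₀ ^ m) (QuotientGroup.mk x) = 1
    rw [hτW, mul_inv_cancel]
  · rw [← QuotientGroup.eq, QuotientGroup.mk_pow, hk₀, ← hbk, ← hk₀]; rfl
  · rw [← QuotientGroup.eq, QuotientGroup.mk_pow, hl₀, ← hd, ← hbl, ← hl₀]; rfl

end Cfsg.RankTwoResistant
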