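import Cfsg.Agent.Lib.Fusion.RankTwoResistant.Shape
import Cfsg.Agent.Lib.Fusion.Systems

/-!
`p`-groups of rank two, `p ≥ 5`, are resistant unless extraspecial of order `p³` and exponent `p`.
-/

set_option autoImplicit false
set_option linter.unusedSectionVars false
set_option linter.style.haveILetI false

namespace Cfsg.RankTwoResistant

open Cfsg FusionSystem
open scoped commutatorElement

universe u

variable {p : ℕ} [hp : Fact p.Prime]

theorem commutator_le_center_cube {X : Type*} [Group X] [Finite X] (hX : Nat.card X = p ^ 3) (a b : X) :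
    ⁅a, b⁆ ∈ Subgroup.center X := by
  by_cases hc : ∀ a b : X, a * b = b * a
  · rw [commutatorElement_eq_one_iff_mul_comm.2 (hc a b)]; exact one_mem _
  · exact (EssentialSmall.extraspecial_cube hX hc).2.2 ▸
      Subgroup.commutator_mem_commutator (Subgroup.mem_top a) (Subgroup.mem_top b)

/-- Cosets of a subgroup of index `p`. -/
theorem cover_index {X : Type*} [Group X] [Finite X] {K : Subgroup X} [K.Normal] (hK : K.index = p) {y : X}
    (hy : y ∉ K) (t : X) : ∃ i : ℕ, ∃ q ∈ K, t = y ^ i * q := by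
  have hq : (QuotientGroup.mk t : X ⧸ K) ∈ Subgroup.zpowers (QuotientGroup.mk y : X ⧸ K) :=
    mem_zpowers_of_prime_card (p := p) (by rw [← Subgroup.index_eq_card, hK])
      fun h => hy ((QuotientGroup.eq_one_iff y).1 h)
  obtain ⟨i, hi⟩ := mem_powers_iff_mem_zpowers.2 hq
  have hi' : (QuotientGroup.mk (y ^ i) : X ⧸ K) = QuotientGroup.mk t := hi
  exact ⟨i, _, QuotientGroup.eq.1 hi', (mul_inv_cancel_left _ _).symm⟩

theorem dvd_of_pow_eq {X : Type*} [Group X] {g : X} (hg : g ^ p = 1) (hg1 : g ≠ 1) {a b : ℕ}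
    (h : g ^ a = g ^ b) : (a : ZMod p) = b := by
  rw [ZMod.natCast_eq_natCast_iff, ← orderOf_eq_prime hg hg1]
  exact pow_eq_pow_iff_modEq.1 h

/-- The final configuration is impossible. -/
theorem false_of_extension {T : Type u} [Group T] [Finite T] (hp5 : 5 ≤ p) (hTc : Nat.card T = p ^ 4)
    (hrk : ∀ A : Subgroup T, Cfsg.IsElementaryAbelian p A → Nat.card A ≤ p ^ 2)
    (Q E₀ : Subgroup T) [hQn : Q.Normal] (hQc : Nat.card Q = p ^ 3) (hexp : ∀ q ∈ Q, q ^ p = 1)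
    (hle : E₀ ≤ Q) (hEc : Nat.card E₀ = p ^ 2) (hEcomm : ∀ a ∈ E₀, ∀ b ∈ E₀, a * b = b * a)
    (hnot : ∃ t : T, ∃ e ∈ E₀, t * e * t⁻¹ ∉ E₀)
    {k l x : T} (hkE : k ∈ E₀) (hlE : l ∈ E₀) (hk1 : k ≠ 1) (hl : l ∉ Subgroup.zpowers k)
    (hxQ : x ∈ Q) (hxE : x ∉ E₀) (hxk : x * k * x⁻¹ = k) (hxl : x * l * x⁻¹ = l * k)
    (β : MulAut T) (hβQ : ∀ q ∈ Q, β q ∈ Q) (hβE : ∀ e ∈ E₀, β e ∈ E₀) (hβk : β k = k ^ 2)
    (hβl : β l = l ^ ((p + 1) / 2)) (hβx : (x ^ 4)⁻¹ * β x ∈ E₀) : False := by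
  classical
  have hpp := hp.out
  have hTp : IsPGroup p T := IsPGroup.of_card hTc
  have hQp : IsPGroup p Q := hTp.to_subgroup Q
  set d := (p + 1) / 2 with hd
  have hk : k ^ p = 1 := hexp k (hle hkE)
  have hl' : l ^ p = 1 := hexp l (hle hlE)
  have hckl : Commute k l := hEcomm k hkE l hlE
  have hcxk : Commute x k := mul_inv_eq_iff_eq_mul.1 hxk
  set E₁ := E₀.subgroupOf Q with hE₁
  have hE₁i : E₁.index = p := by
    have h := Subgroup.relIndex_mul_relIndex ⊥ E₀ Q bot_le hle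
    rw [Subgroup.relIndex_bot_left, Subgroup.relIndex_bot_left, hEc, hQc, show p ^ 3 = p ^ 2 * p by ring] at h
    exact Nat.eq_of_mul_eq_mul_left (pow_pos hpp.pos 2) h
  haveI hE₁n : E₁.Normal := by
    haveI := hQp.isNilpotent
    exact CfsgLib.CyclicMax.normal_of_index_prime hQp hE₁i
  have hQcov : ∀ q ∈ Q, ∃ i : ℕ, ∃ e ∈ E₀, q = x ^ i * e := fun q hq => by
    obtain ⟨i, e, he, h⟩ := cover_index hE₁i (y := (⟨x, hxQ⟩ : Q)) hxE ⟨q, hq⟩
    exact ⟨i, e, he, congrArg Subtype.val h⟩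
  have hEcov : ∀ e ∈ E₀, ∃ i j : ℕ, e = k ^ i * l ^ j := fun e he => by
    obtain ⟨n, hn, i, j, h⟩ := decomp (N := (⊥ : Subgroup E₀)) (by rw [Subgroup.index_bot, hEc])
      (k := ⟨k, hkE⟩) (l := ⟨l, hlE⟩) (fun h => hk1 (congrArg Subtype.val (Subgroup.mem_bot.1 h)))
      (by rw [bot_sup_eq]; rintro ⟨i, hi⟩; exact hl ⟨i, by simpa using congrArg Subtype.val hi⟩) ⟨e, he⟩
    rw [Subgroup.mem_bot.1 hn, one_mul] at h
    exact ⟨i, j, congrArg Subtype.val h⟩
  have hxil : ∀ i : ℕ, x ^ i * l * (x ^ i)⁻¹ = l * k ^ i := by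
    intro i
    induction i with
    | zero => simp
    | succ i ih =>
      calc x ^ (i + 1) * l * (x ^ (i + 1))⁻¹ = x * (x ^ i * l * (x ^ i)⁻¹) * x⁻¹ := by rw [pow_succ']; group
        _ = x * (l * k ^ i) * x⁻¹ := by rw [ih]
        _ = (x * l * x⁻¹) * (x * k * x⁻¹) ^ i := by rw [conj_pow]; group
        _ = l * k ^ (i + 1) := by rw [hxl, hxk, mul_assoc, ← pow_succ']
  have hA : ∀ q ∈ Q, Commute q l → q ∈ E₀ := by
    intro q hq hql
    obtain ⟨i, e, he, rfl⟩ := hQcov q hq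
    have h1 : x ^ i * l * (x ^ i)⁻¹ = l := by
      calc x ^ i * l * (x ^ i)⁻¹ = x ^ i * (e * l * e⁻¹) * (x ^ i)⁻¹ := by
            rw [hEcomm e he l hlE, mul_inv_cancel_right]
        _ = (x ^ i * e) * l * (x ^ i * e)⁻¹ := by group
        _ = l := by rw [hql.eq, mul_inv_cancel_right]
    rw [hxil, mul_eq_left] at h1
    have := dvd_of_pow_eq hk hk1 (h1.trans (pow_zero k).symm)
    rw [Nat.cast_zero, ZMod.natCast_eq_zero_iff] at this
    obtain ⟨j, rfl⟩ := this
    rw [pow_mul, hexp x hxQ, one_pow, one_mul]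
    exact he
  have hB : ∀ e ∈ E₀, Commute x e → e ∈ Subgroup.zpowers k := by
    intro e he hxe
    obtain ⟨i, j, rfl⟩ := hEcov e he
    have h1 : k ^ i * (l * k) ^ j = k ^ i * l ^ j := by
      calc k ^ i * (l * k) ^ j = (x * k * x⁻¹) ^ i * (x * l * x⁻¹) ^ j := by rw [hxk, hxl]
        _ = x * (k ^ i * l ^ j) * x⁻¹ := by rw [conj_pow, conj_pow]; group
        _ = _ := by rw [hxe.eq, mul_inv_cancel_right]
    rw [mul_right_inj, hckl.symm.mul_pow, mul_eq_left] at h1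
    have := dvd_of_pow_eq hk hk1 (h1.trans (pow_zero k).symm)
    rw [Nat.cast_zero, ZMod.natCast_eq_zero_iff] at this
    obtain ⟨r, rfl⟩ := this
    rw [pow_mul l, hl', one_pow, mul_one]
    exact pow_mem (Subgroup.mem_zpowers k) i
  -- `k` is central
  set Z := Subgroup.zpowers k with hZ
  have hkQ : ∀ q ∈ Q, Commute k q := fun q hq => by
    obtain ⟨i, e, he, rfl⟩ := hQcov q hq
    exact (hcxk.symm.pow_right i).mul_right (hEcomm k hkE e he)
  have hkT : ∀ t : T, t * k * t⁻¹ = k := by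
    intro t
    have hconj : ∀ s : T, s * k * s⁻¹ ∈ Z := by
      intro s
      have hc : ∀ q ∈ Q, Commute (s * k * s⁻¹) q := fun q hq => by
        have h := hkQ _ (hQn.conj_mem q hq s⁻¹)
        rw [inv_inv] at h
        have h2 := h.map (MulAut.conj s).toMonoidHom
        simpa [mul_assoc] using h2
      have hmem := hQn.conj_mem k (hle hkE) s
      exact hB _ (hA _ hmem (hc l (hle hlE))) (hc x hxQ).symm
    obtain ⟨i, hi⟩ := mem_powers_iff_mem_zpowers.2 (hconj t)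
    obtain ⟨n, hn⟩ := hTp t
    have hiter : ∀ m : ℕ, t ^ m * k * (t ^ m)⁻¹ = k ^ i ^ m := by
      intro m
      induction m with
      | zero => simp
      | succ m ih =>
        calc t ^ (m + 1) * k * (t ^ (m + 1))⁻¹ = t * (t ^ m * k * (t ^ m)⁻¹) * t⁻¹ := by rw [pow_succ']; group
          _ = (t * k * t⁻¹) ^ i ^ m := by rw [ih, conj_pow]
          _ = k ^ i ^ (m + 1) := by rw [← hi, ← pow_mul, ← pow_succ']
    have := hiter (p ^ n)
    rw [hn, one_mul, inv_one, mul_one, pow_pow_eq hk] at this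
    exact hi.symm.trans this.symm
  haveI hZn : Z.Normal := ⟨by
    rintro _ ⟨i, rfl⟩ t
    exact ⟨i, by show k ^ i = t * k ^ i * t⁻¹; rw [← conj_zpow, hkT]⟩⟩
  have hZc : Nat.card Z = p := by rw [Nat.card_zpowers, orderOf_eq_prime hk hk1]
  set π := QuotientGroup.mk' Z with hπ
  have hπc : Nat.card (T ⧸ Z) = p ^ 3 := by
    have h := Z.card_eq_card_quotient_mul_card_subgroup
    rw [hTc, hZc, show p ^ 4 = p ^ 3 * p by ring] at h
    exact (Nat.eq_of_mul_eq_mul_right hpp.pos h).symm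
  -- `Q` has index `p`
  have hQi : Q.index = p := by
    have h := Q.card_mul_index
    rw [hQc, hTc, show p ^ 4 = p ^ 3 * p by ring] at h
    exact Nat.eq_of_mul_eq_mul_left (pow_pos hpp.pos 3) h
  -- elements outside `Q` move `l` out of `E₀`
  have hmove : ∀ y, y ∉ Q → y * l * y⁻¹ * l⁻¹ ∉ E₀ := by
    intro y hy hmem
    obtain ⟨t, e, he, hte⟩ := hnot
    apply hte
    have hyE : ∀ e ∈ E₀, y * e * y⁻¹ ∈ E₀ := by
      intro e he
      obtain ⟨i, j, rfl⟩ := hEcov e he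
      rw [show y * (k ^ i * l ^ j) * y⁻¹ = (y * k ^ i * y⁻¹) * (y * l ^ j * y⁻¹) by group, ← conj_pow, ← conj_pow,
        hkT]
      refine mul_mem (pow_mem hkE i) (pow_mem ?_ j)
      have := mul_mem hmem hlE
      rwa [inv_mul_cancel_right] at this
    obtain ⟨i, q, hq, rfl⟩ := cover_index hQi hy t
    have hqE : q * e * q⁻¹ ∈ E₀ := hE₁n.conj_mem ⟨e, hle he⟩ he ⟨q, hq⟩
    rw [show y ^ i * q * e * (y ^ i * q)⁻¹ = y ^ i * (q * e * q⁻¹) * (y ^ i)⁻¹ by group]
    clear hte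
    generalize q * e * q⁻¹ = w at hqE
    induction i with
    | zero => simpa using hqE
    | succ i ih =>
      rw [show y ^ (i + 1) * w * (y ^ (i + 1))⁻¹ = y * (y ^ i * w * (y ^ i)⁻¹) * y⁻¹ by rw [pow_succ']; group]
      exact hyE _ ih
  obtain ⟨y₀, hy₀⟩ : ∃ y : T, y ∉ Q := by
    by_contra hh
    push Not at hh
    rw [(Subgroup.eq_top_iff' Q).2 hh, Subgroup.index_top] at hQi
    exact hpp.one_lt.ne hQi
  set v₀ := y₀ * l * y₀⁻¹ * l⁻¹ with hv₀
  have hv₀Q : v₀ ∈ Q := mul_mem (hQn.conj_mem l (hle hlE) y₀) (inv_mem (hle hlE))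
  have hv₀E := hmove y₀ hy₀
  have hQbar : ∀ q ∈ Q, ∀ q' ∈ Q, Commute (π q) (π q') := by
    intro q hq q' hq'
    obtain ⟨i, e, he, rfl⟩ := hQcov q hq
    obtain ⟨j, f, hf, rfl⟩ := hQcov q' hq'
    have hxe : ∀ e ∈ E₀, Commute (π x) (π e) := by
      intro e he
      obtain ⟨a, b, rfl⟩ := hEcov e he
      rw [map_mul, map_pow, map_pow]
      refine ((hcxk.map π).pow_right a).mul_right (Commute.pow_right ?_ b)
      have hπk : π k = 1 := (QuotientGroup.eq_one_iff k).2 (Subgroup.mem_zpowers k)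
      have h := congrArg π hxl
      rw [map_mul, map_mul, map_inv, map_mul, hπk, mul_one] at h
      exact mul_inv_eq_iff_eq_mul.1 h
    rw [map_mul, map_mul, map_pow, map_pow]
    exact (((Commute.refl (π x)).pow_pow i j).mul_right ((hxe f hf).pow_left i)).mul_left
      ((((hxe e he).symm).pow_right j).mul_right ((show Commute e f from hEcomm e he f hf).map π))
  have hlift : ∀ a b : T, π a = π b → ∃ i : ℕ, a = k ^ i * b := by
    intro a b h
    have h1 : a * b⁻¹ ∈ Z := (QuotientGroup.eq_one_iff _).1 (show π (a * b⁻¹) = 1 by rw [map_mul, map_inv, h, mul_inv_cancel])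
    obtain ⟨i, hi⟩ := mem_powers_iff_mem_zpowers.2 h1
    have hi' : k ^ i = a * b⁻¹ := hi
    exact ⟨i, by rw [hi', inv_mul_cancel_right]⟩
  have hcent : ∀ a b c : T, Commute (π (a * b * a⁻¹ * b⁻¹)) (π c) := by
    intro a b c
    rw [show π (a * b * a⁻¹ * b⁻¹) = ⁅π a, π b⁆ by rw [map_mul, map_mul, map_mul, map_inv, map_inv]; rfl]
    exact (Subgroup.mem_center_iff.1 (commutator_le_center_cube hπc (π a) (π b)) (π c)).symm
  -- choose `y` commuting with `v₀`
  obtain ⟨i₀, hi₀⟩ := hlift (y₀ * v₀ * y₀⁻¹) v₀ (by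
    rw [map_mul, map_mul, map_inv, ← (hcent y₀ l y₀).eq, mul_inv_cancel_right])
  obtain ⟨c₀, hc₀⟩ := hlift (l * v₀ * l⁻¹) v₀ (by
    rw [map_mul, map_mul, map_inv, ← (hcent y₀ l l).eq, mul_inv_cancel_right])
  have hkc : k ^ c₀ ≠ 1 := fun h => by
    rw [h, one_mul, mul_inv_eq_iff_eq_mul] at hc₀
    exact hv₀E (hA v₀ hv₀Q hc₀.symm)
  obtain ⟨j, hj⟩ : ∃ j : ℕ, (k ^ c₀) ^ j = (k ^ i₀)⁻¹ := by
    have : Subgroup.zpowers (k ^ c₀) = Z := by
      refine Subgroup.eq_of_le_of_card_ge (Subgroup.zpowers_le.2 (pow_mem (Subgroup.mem_zpowers k) _)) ?_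
      rw [hZc, Nat.card_zpowers, orderOf_eq_prime (by rw [← pow_mul, mul_comm, pow_mul, hk, one_pow]) hkc]
    exact mem_powers_iff_mem_zpowers.2 (this.ge (inv_mem (pow_mem (Subgroup.mem_zpowers k) i₀)))
  set y := l ^ j * y₀ with hy
  have hyQ : y ∉ Q := fun h => hy₀ (by simpa [hy] using mul_mem (inv_mem (pow_mem (hle hlE) j)) h)
  have hkc' : ∀ (n : ℕ) (z : T), Commute (k ^ n) z := fun n z =>
    Commute.pow_left (show Commute k z from (mul_inv_eq_iff_eq_mul.1 (hkT z)).symm) n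
  have hljv : l ^ j * v₀ * (l ^ j)⁻¹ = (k ^ c₀) ^ j * v₀ := conj_pow_central (fun z => (hkc' c₀ z).eq) hc₀ j
  have hyv₀ : y * v₀ * y⁻¹ = v₀ := by
    calc y * v₀ * y⁻¹ = l ^ j * (y₀ * v₀ * y₀⁻¹) * (l ^ j)⁻¹ := by rw [hy]; group
      _ = k ^ i₀ * (l ^ j * v₀ * (l ^ j)⁻¹) := by rw [hi₀, ← mul_assoc, ← (hkc' i₀ (l ^ j)).eq]; group
      _ = v₀ := by rw [hljv, hj, mul_inv_cancel_left]
  set v := y * l * y⁻¹ * l⁻¹ with hv
  have hvv₀ : v = (k ^ c₀) ^ j * v₀ := by
    rw [← hljv, hv, hy, hv₀]; group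
  have hyv : Commute y v := by
    rw [hvv₀, ← pow_mul]
    exact (hkc' (c₀ * j) y).symm.mul_right (mul_inv_eq_iff_eq_mul.1 hyv₀)
  have hvQ : v ∈ Q := mul_mem (hQn.conj_mem l (hle hlE) y) (inv_mem (hle hlE))
  have hvE := hmove y hyQ
  -- the exponent `α`
  obtain ⟨α, q, hq, hβy⟩ := cover_index hQi hyQ (β y)
  have hπβv : π (β v) = π v ^ (α * d) := by
    have h1 : y * l * y⁻¹ = v * l := by rw [hv, inv_mul_cancel_right]
    have h2 := congrArg (fun z => π (β z)) h1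
    simp only [map_mul, map_inv, hβy, hβl, map_pow] at h2
    have h3 : π q * π l ^ d * (π q)⁻¹ = π l ^ d := by
      rw [((hQbar q hq l (hle hlE)).pow_right d).eq, mul_inv_cancel_right]
    rw [show π y ^ α * π q * π l ^ d * (π y ^ α * π q)⁻¹ = π y ^ α * (π q * π l ^ d * (π q)⁻¹) * (π y ^ α)⁻¹ by group,
      h3] at h2
    have h4 : π y * π l * (π y)⁻¹ = π v * π l := by rw [← map_inv, ← map_mul, ← map_mul, h1, map_mul]
    have hvc : ∀ z, π v * z = z * π v := fun z => by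
      obtain ⟨z, rfl⟩ := QuotientGroup.mk'_surjective Z z
      exact (hcent y l z).eq
    rw [← conj_pow, conj_pow_central hvc h4 α,
      ((show Commute (π v) (π l) from hvc (π l)).pow_left α).mul_pow, ← pow_mul, mul_left_inj] at h2
    exact h2.symm
  obtain ⟨s, e, he, hvs⟩ := hQcov v hvQ
  let χ := QuotientGroup.mk' E₁
  set X : Q ⧸ E₁ := χ ⟨x, hxQ⟩ with hX
  have hX1 : X ≠ 1 := fun h => hxE ((QuotientGroup.eq_one_iff (⟨x, hxQ⟩ : Q)).1 h)
  have hXp : X ^ p = 1 := by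
    rw [hX, ← map_pow, show (⟨x, hxQ⟩ : Q) ^ p = 1 from Subtype.ext (hexp x hxQ), map_one]
  have hχE : ∀ (w : T) (hw : w ∈ Q), w ∈ E₀ → χ ⟨w, hw⟩ = 1 := fun w hw h => (QuotientGroup.eq_one_iff _).2 h
  have hs : (s : ZMod p) ≠ 0 := by
    intro h
    rw [ZMod.natCast_eq_zero_iff] at h
    obtain ⟨r, rfl⟩ := h
    rw [pow_mul, hexp x hxQ, one_pow, one_mul] at hvs
    exact hvE (show v ∈ E₀ by rw [hvs]; exact he)
  have hα : (α : ZMod p) * (d : ZMod p) = 4 := by
    obtain ⟨i, hi⟩ := hlift (β v) (v ^ (α * d)) (by rw [hπβv, map_pow])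
    have hkQ' : k ^ i ∈ Q := pow_mem (hle hkE) i
    have h1 : χ ⟨β v, hβQ v hvQ⟩ = (χ ⟨v, hvQ⟩) ^ (α * d) := by
      rw [show (⟨β v, hβQ v hvQ⟩ : Q) = ⟨k ^ i, hkQ'⟩ * ⟨v, hvQ⟩ ^ (α * d) from Subtype.ext (by simpa using hi),
        map_mul, map_pow, hχE _ hkQ' (pow_mem hkE i), one_mul]
    have h2 : χ ⟨v, hvQ⟩ = X ^ s := by
      rw [show (⟨v, hvQ⟩ : Q) = ⟨x, hxQ⟩ ^ s * ⟨e, hle he⟩ from Subtype.ext hvs, map_mul, map_pow,
        hχE e (hle he) he, mul_one]
    have h3 : χ ⟨β v, hβQ v hvQ⟩ = X ^ (4 * s) := by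
      have h4 : χ ⟨β x, hβQ x hxQ⟩ = X ^ 4 := by
        rw [hX, ← map_pow]
        exact ((QuotientGroup.eq (s := E₁) (a := (⟨x, hxQ⟩ : Q) ^ 4) (b := ⟨β x, hβQ x hxQ⟩)).2 (Subgroup.mem_subgroupOf.2 (by simpa using hβx))).symm
      rw [show (⟨β v, hβQ v hvQ⟩ : Q) = ⟨β x, hβQ x hxQ⟩ ^ s * ⟨β e, hle (hβE e he)⟩ from
          Subtype.ext (by simp [hvs]),
        map_mul, map_pow, h4, hχE _ _ (hβE e he), mul_one, ← pow_mul]
    rw [h2, ← pow_mul, h3] at h1
    have := dvd_of_pow_eq hXp hX1 h1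
    push_cast at this
    exact mul_left_cancel₀ hs (by linear_combination -this)
  -- the `p`-th power of `y`
  have hvp : v ^ p = 1 := hexp v hvQ
  have hyl : Commute (y ^ p) l := by
    have h : l * y * l⁻¹ = v⁻¹ * y := by rw [hv]; group
    have h2 : (l * y * l⁻¹) ^ p = y ^ p := by
      rw [h, (hyv.symm.inv_left).mul_pow, inv_pow, hvp, inv_one, one_mul]
    rw [conj_pow] at h2
    exact (mul_inv_eq_iff_eq_mul.1 h2).symm
  have hypQ : y ^ p ∈ Q := hQi ▸ Q.pow_index_mem y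
  have hypE := hA _ hypQ hyl
  have hypZ : y ^ p ∈ Z := by
    refine hB _ hypE ?_
    have h1 : Commute (x ^ s) (y ^ p) := by
      have h2 : Commute v (y ^ p) := hyv.symm.pow_right p
      rw [show x ^ s = v * e⁻¹ by rw [hvs, mul_inv_cancel_right]]
      exact h2.mul_left ((show Commute e (y ^ p) from hEcomm e he _ hypE).inv_left)
    have hco : (Nat.gcd s p) = 1 := by
      refine (Nat.coprime_comm.1 ((hpp.coprime_iff_not_dvd).2 fun h => hs ?_))
      rwa [ZMod.natCast_eq_zero_iff]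
    obtain ⟨n, hn⟩ := (show ∃ n : ℕ, (x ^ s) ^ n = x from
      mem_powers_iff_mem_zpowers.2 (by
        have : x ^ Nat.gcd s p ∈ Subgroup.zpowers (x ^ s) := by
          rw [← zpow_natCast x (Nat.gcd s p), Nat.gcd_eq_gcd_ab, zpow_add, zpow_mul, zpow_mul, zpow_natCast, zpow_natCast,
            hexp x hxQ, one_zpow, mul_one]
          exact zpow_mem (Subgroup.mem_zpowers _) _
        rwa [hco, pow_one] at this))
    exact hn ▸ h1.pow_left n
  have hyp1 : y ^ p ≠ 1 := by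
    intro h
    set B := Z ⊔ Subgroup.zpowers v with hB'
    haveI hBc : IsMulCommutative B := ⟨⟨fun a b => Subtype.ext (by
      obtain ⟨c, hc, _, ⟨i, rfl⟩, ha⟩ := Subgroup.mem_sup_of_normal_left.1 a.2
      obtain ⟨c', hc', _, ⟨i', rfl⟩, hb⟩ := Subgroup.mem_sup_of_normal_left.1 b.2
      obtain ⟨r, rfl⟩ := hc
      obtain ⟨r', rfl⟩ := hc'
      show (a : T) * b = b * a
      rw [← ha, ← hb]
      have hkv : Commute k v := hkQ v hvQ
      exact ((((Commute.refl k).zpow_zpow r r').mul_right (hkv.zpow_zpow r i')).mul_left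
        (((hkv.zpow_zpow r' i).symm).mul_right ((Commute.refl v).zpow_zpow i i'))).eq)⟩⟩
    have hBQ : B ≤ Q := sup_le (Subgroup.zpowers_le.2 (hle hkE)) (Subgroup.zpowers_le.2 hvQ)
    have hBe : Cfsg.IsElementaryAbelian p B := ⟨hBc, fun b hb => hexp b (hBQ hb)⟩
    have hBcard : Nat.card B = p ^ 2 := by
      refine le_antisymm (hrk B hBe) ?_
      have hlt : Z < B := lt_of_le_of_ne le_sup_left fun e' =>
        hvE ((Subgroup.zpowers_le.2 hkE) (show v ∈ Z by rw [e']; exact Subgroup.mem_sup_right (Subgroup.mem_zpowers v)))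
      have h1 : Nat.card Z < Nat.card B := Set.Finite.card_lt_card (Set.toFinite _) (SetLike.coe_ssubset_coe.2 hlt)
      obtain ⟨n, hn⟩ := IsPGroup.iff_card.1 (hTp.to_subgroup B)
      rw [hZc, hn] at h1
      rw [hn]
      exact Nat.pow_le_pow_right hpp.pos ((Nat.pow_lt_pow_iff_right hpp.one_lt).1 (by rwa [pow_one]))
    refine hyQ (hBQ (rank_extend (S := ⊤) (fun A _ hA => hrk A hA) le_top hBe hBcard (Subgroup.mem_top y) h ?_))
    intro b hb
    obtain ⟨c, ⟨r, rfl⟩, _, ⟨i, rfl⟩, rfl⟩ := Subgroup.mem_sup_of_normal_left.1 hb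
    have hky : Commute k y := (mul_inv_eq_iff_eq_mul.1 (hkT y)).symm
    exact ((hky.zpow_left r).mul_left (hyv.symm.zpow_left i)).eq
  -- the contradiction
  obtain ⟨r, hr⟩ := mem_powers_iff_mem_zpowers.2 hypZ
  have hr' : k ^ r = y ^ p := hr
  have hcQ : commutator T ≤ Q := commutator_le_of_cover Q y ⊥ (fun c hc => by rw [Subgroup.mem_bot.1 hc]; simp)
    (fun a ha b hb => by rw [Subgroup.mem_bot.1 ha, Subgroup.mem_bot.1 hb]; simp) fun t => by
      obtain ⟨i, q, hq, rfl⟩ := cover_index hQi hyQ t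
      exact ⟨i, q, 1, hq, one_mem _, by rw [mul_one]⟩
  have hR1 : CfsgLib.Regular.R1 p T :=
    r1_of_derived hp5 hTp (le_trans (Nat.le_of_dvd Nat.card_pos (Subgroup.card_dvd_of_le hcQ)) hQc.le)
  have h1 : (y ^ p) ^ α = (y ^ p) ^ 2 := by
    have h2 : β (y ^ p) = (y ^ p) ^ 2 := by rw [← hr', map_pow, hβk, ← pow_mul, ← pow_mul, mul_comm]
    rw [← h2, map_pow, hβy, CfsgLib.Regular.mul_pow_of_exponent hR1 (fun c hc => hexp c (hcQ hc)) (y ^ α) q, hexp q hq,
      mul_one, ← pow_mul, ← pow_mul, mul_comm]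
  have h2 := dvd_of_pow_eq (by rw [← hr', ← pow_mul, mul_comm, pow_mul, hk, one_pow]) hyp1 h1
  have h3 : ((2 * d : ℕ) : ZMod p) = 1 := by
    obtain ⟨t, ht⟩ := hpp.odd_of_ne_two (show p ≠ 2 by omega)
    rw [show 2 * d = p + 1 by omega]; simp
  have h6 : ((6 : ℕ) : ZMod p) = 0 := by
    push_cast at h2 h3 ⊢
    linear_combination h2 + (α : ZMod p) * h3 + (-2 : ZMod p) * hα
  rw [ZMod.natCast_eq_zero_iff] at h6
  have := Nat.le_of_dvd (by norm_num) h6
  interval_cases p <;> first | omega | norm_num at hpp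

variable {Ω : Type u} [Group Ω] {S : Subgroup Ω} [Finite S] {F : FusionSystem S}

theorem not_essential (hp5 : 5 ≤ p) (hS : IsPGroup p S) (hF : F.IsSaturated p)
    (hrk : ∀ T : Subgroup Ω, T ≤ S → Cfsg.IsElementaryAbelian p T → Nat.card T ≤ p ^ 2)
    (hnotE : ¬ (Nat.card S = p ^ 3 ∧ Monoid.exponent S = p)) (E : Subgroup Ω) : ¬ F.IsEssential p E := by
  intro hE
  classical
  have hpp := hp.out
  obtain ⟨P⟩ := exists_shape hp5 hS hF hrk hE
  have hES : E ≤ S := hE.1.1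
  set M := normalizerIn S E with hMdef
  have hMS : M ≤ S := normalizerIn_le
  haveI : Finite M := finite_normalizerIn
  haveI : Finite E := finite_of_le hES
  have hMlt : M < S := by
    refine lt_of_le_of_ne hMS fun hMeq => hnotE ⟨by rw [← hMeq]; exact P.cardN, ?_⟩
    have h1 : ∀ s : S, s ^ p = 1 := fun s => by
      have hs : (s : Ω) ∈ M := hMeq.ge s.2
      exact Subtype.ext (by simpa using congrArg Subtype.val (P.expN ⟨s, hs⟩))
    rcases (Nat.dvd_prime hpp).1 (Monoid.exponent_dvd_of_forall_pow_eq_one h1) with h | h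
    · exfalso
      have hx : (⟨P.k, hES P.kE⟩ : S) ^ 1 = 1 := h ▸ Monoid.pow_exponent_eq_one _
      exact P.k_ne (by simpa using congrArg Subtype.val hx)
    · exact h
  obtain ⟨Q, hQconj, hQfn⟩ := F.exists_isFullyNormalized hMS
  obtain ⟨φ, hφ, hφr⟩ := hQconj
  have hQS : Q ≤ S := hφr ▸ F.range_le hφ
  haveI : Finite Q := finite_of_le hQS
  set ι := F.isoOf hφ hφr with hι
  have hQc : Nat.card Q = p ^ 3 := by rw [← Nat.card_congr ι.toEquiv]; exact P.cardN
  have hQlt : Q < S := by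
    refine lt_of_le_of_ne hQS fun h => hMlt.ne (Subgroup.eq_of_le_of_card_ge hMS ?_)
    rw [← h, hQc, hMdef, P.cardN]
  have hQexp : ∀ q : Q, q ^ p = 1 := fun q => by
    obtain ⟨m, rfl⟩ := ι.surjective q
    rw [← map_pow, P.expN, map_one]
  have hEM : E ≤ M := le_normalizerIn hES
  set EM := E.subgroupOf M
  set E' := EM.map φ with hE'
  have hE'conj : F.IsConj E E' := by
    refine ⟨_, F.restrict_mem hφ hEM, ?_⟩
    rw [hE', MonoidHom.range_comp, Subgroup.inclusion_range]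
  have hE'c : Nat.card E' = p ^ 2 := by rw [← hE'conj.card_eq, P.card]
  have hE'Q : E' ≤ Q := by rintro _ ⟨m, -, rfl⟩; exact hφr.le ⟨m, rfl⟩
  have hE'cen : centralizerIn S E' ≤ E' := (hE.1.of_isConj hE'conj).centralizerIn_le_self
  have hE'N : Nat.card (normalizerIn S E') ≤ p ^ 3 := P.cardN ▸ hE.2.1.2 E' hE'conj
  set T := normalizerIn S Q with hT
  haveI : Finite T := finite_normalizerIn
  have hTp : IsPGroup p T := hS.to_le normalizerIn_le
  have hQT : Q ≤ T := le_normalizerIn hQS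
  set QT := Q.subgroupOf T
  haveI hQTn : QT.Normal := Subgroup.normal_subgroupOf_of_le_normalizer fun m hm => hm.2
  have hQTc : Nat.card QT = p ^ 3 := by rw [Nat.card_congr (Subgroup.subgroupOfEquivOfLe hQT).toEquiv, hQc]
  -- the transported elements
  let kM : M := ⟨P.k, hEM P.kE⟩
  let lM : M := ⟨P.l, hEM P.lE⟩
  have hQnab : ¬ ∀ a b : Q, a * b = b * a := fun h => by
    have h1 : P.x * lM = lM * P.x := ι.injective (by rw [map_mul, map_mul, h])
    have h2 : (P.x : Ω) * P.l = P.l * (P.x : Ω) := congrArg Subtype.val h1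
    have h3 := P.conj_l
    rw [h2, mul_inv_cancel_right, left_eq_mul] at h3
    exact P.k_ne h3
  obtain ⟨hZc, hZi, -, -⟩ := heis_basic hQc hQnab
  -- the order of `T`
  have hTc : Nat.card T = p ^ 4 := by
    let π : T →* MulAut (Q ⧸ Subgroup.center Q) :=
      ((quotAut (Subgroup.center Q)).comp (F.autGroup Q).subtype).comp (conjA F Q hQS)
    have hker : π.ker ≤ QT := by
      intro t ht
      have hmod : ∀ q : Q, q⁻¹ * ((conjA F Q hQS t : F.autGroup Q) : MulAut Q) q ∈ Subgroup.center Q := fun q => by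
        rw [← QuotientGroup.eq]
        exact (congrArg (fun f : MulAut (Q ⧸ Subgroup.center Q) => f (QuotientGroup.mk q))
          (MonoidHom.mem_ker.1 ht)).symm
      obtain ⟨u, hu⟩ := heis_inner hQc hQnab hmod
      have hz : (u : Ω)⁻¹ * (t : Ω) ∈ centralizerIn S E' := by
        refine ⟨S.mul_mem (S.inv_mem (hQS u.2)) t.2.1, Subgroup.mem_centralizer_iff.mpr fun w hw => ?_⟩
        have h1 : (t : Ω) * w * (t : Ω)⁻¹ = (u : Ω) * w * (u : Ω)⁻¹ :=
          congrArg Subtype.val (hu ⟨w, hE'Q hw⟩)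
        calc w * ((u : Ω)⁻¹ * t) = (u : Ω)⁻¹ * ((u : Ω) * w * (u : Ω)⁻¹) * t := by group
          _ = (u : Ω)⁻¹ * t * w := by rw [← h1]; group
      have := Q.mul_mem u.2 (hE'Q (hE'cen hz))
      rwa [mul_inv_cancel_left] at this
    have hrange : Nat.card π.range ≤ p :=
      card_autSub_le (hTp.of_surjective π.rangeRestrict π.rangeRestrict_surjective)
        (by rw [← Subgroup.index_eq_card, hZi]) fun w => by
          obtain ⟨q, rfl⟩ := QuotientGroup.mk_surjective w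
          rw [← QuotientGroup.mk_pow, hQexp]; rfl
    have hle : Nat.card T ≤ p ^ 4 := by
      rw [← π.ker.card_mul_index, Subgroup.index_ker, pow_succ]
      exact Nat.mul_le_mul ((Nat.le_of_dvd Nat.card_pos (Subgroup.card_dvd_of_le hker)).trans hQTc.le) hrange
    refine le_antisymm hle ?_
    have hlt : Nat.card Q < Nat.card T := card_lt_of_lt (lt_normalizerIn hS hQlt)
    obtain ⟨n, hn⟩ := IsPGroup.iff_card.1 hTp
    rw [hQc, hn] at hlt
    rw [hn]
    exact Nat.pow_le_pow_right hpp.pos ((Nat.pow_lt_pow_iff_right hpp.one_lt).1 hlt)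
  -- every automorphism of `Q` extends to `T`
  let Ext : Subgroup (MulAut Q) :=
    { carrier := {a | ∃ b : MulAut T, ∀ q : Q, b ⟨q, hQT q.2⟩ = ⟨a q, hQT (a q).2⟩}
      one_mem' := ⟨1, fun q => rfl⟩
      mul_mem' := by
        rintro a a' ⟨b, hb⟩ ⟨b', hb'⟩
        exact ⟨b * b', fun q => by rw [MulAut.mul_apply, hb', hb]; rfl⟩
      inv_mem' := by
        rintro a ⟨b, hb⟩
        refine ⟨b⁻¹, fun q => b.injective ?_⟩
        rw [MulAut.apply_inv_self, hb]
        exact Subtype.ext (congrArg (fun z : Q => (z : Ω)) (MulAut.apply_inv_self _ a q).symm) }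
  have hExt : F.autGroup Q ≤ Ext := by
    rcases hF.autGroup_eq_or_isEssential hS hQlt hQfn with h | ⟨h, -⟩
    · rw [← h]
      refine (Subgroup.closure_le _).2 ?_
      rintro a ⟨R, hQR, ψ, hψ, hψe⟩
      have hRS : R ≤ S := F.source_le hψ
      haveI : Finite R := finite_of_le hRS
      have hTR : T ≤ R := by
        have h1 : normalizerIn R Q ≤ T := fun g hg => ⟨hRS hg.1, hg.2⟩
        haveI : Finite (normalizerIn R Q) := finite_of_le (S := T) h1
        have h2 := card_lt_of_lt (lt_normalizerIn (hS.to_le hRS) hQR)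
        obtain ⟨n, hn⟩ := IsPGroup.iff_card.1 ((hS.to_le hRS).to_le (fun g hg => hg.1 : normalizerIn R Q ≤ R))
        rw [hQc, hn] at h2
        have h3 : normalizerIn R Q = T := Subgroup.eq_of_le_of_card_ge h1 (by
          rw [hTc, hn]; exact Nat.pow_le_pow_right hpp.pos ((Nat.pow_lt_pow_iff_right hpp.one_lt).1 h2))
        exact h3 ▸ fun g hg => hg.1
      have hres := F.restrict_mem hψ hTR
      set ψT := ψ.comp (Subgroup.inclusion hTR)
      have hψT : ∀ q : Q, ψT ⟨q, hQT q.2⟩ = ((a q : Q) : Ω) := fun q => hψe q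
      have hr0 : (Q.subtype.comp a.toMonoidHom).range = Q := by
        rw [MonoidHom.range_comp, MonoidHom.range_eq_top.2 a.surjective, ← MonoidHom.range_eq_map, Subgroup.range_subtype]
      have hr : ψT.range = T := by
        refine Subgroup.eq_of_le_of_card_ge ?_
          (Nat.card_congr (MonoidHom.ofInjective (F.injective_of_mem hres)).toEquiv).le
        rintro _ ⟨t, rfl⟩
        exact ⟨F.apply_mem hres t, apply_mem_normalizer (φ := Q.subtype.comp a.toMonoidHom) hQT hψT hr0 t t.2.2⟩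
      exact ⟨F.isoOf hres hr, fun q => Subtype.ext (hψT q)⟩
    · obtain ⟨P'⟩ := exists_shape hp5 hS hF hrk h
      have := P'.card
      rw [hQc] at this
      exact absurd (Nat.pow_right_injective hpp.two_le this) (by norm_num)
  have hδmem : MulAut.congr ι P.δ ∈ F.autGroup Q := by
    rw [← F.autGroup_map_congr hφ hφr]
    exact ⟨_, P.δ_mem, rfl⟩
  obtain ⟨β, hβ⟩ := hExt hδmem
  -- everything in `T`
  let f : M →* T := (Subgroup.inclusion hQT).comp ι.toMonoidHom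
  have hf : Function.Injective f := (Subgroup.inclusion_injective hQT).comp ι.injective
  have hβf : ∀ m, β (f m) = f (P.δ m) := fun m => by
    show β ⟨(ι m : Ω), _⟩ = _
    rw [hβ]
    exact Subtype.ext (congrArg (fun z => ((ι (P.δ z) : Q) : Ω)) (ι.symm_apply_apply m))
  refine false_of_extension hp5 hTc ?_ QT (EM.map f) hQTc ?_ ?_ ?_ ?_ ?_ (k := f kM) (l := f lM) (x := f P.x)
    ⟨kM, P.kE, rfl⟩ ⟨lM, P.lE, rfl⟩ ?_ ?_ (ι P.x).2 ?_ ?_ ?_ β ?_ ?_ ?_ ?_ ?_
  · intro A hA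
    rw [Nat.card_congr (A.equivMapOfInjective T.subtype T.subtype_injective).toEquiv]
    refine hrk _ ((Subgroup.map_subtype_le A).trans normalizerIn_le) ⟨⟨⟨?_⟩⟩, ?_⟩
    · haveI := hA.1
      rintro ⟨_, u, hu, rfl⟩ ⟨_, w, hw, rfl⟩
      exact Subtype.ext (congrArg (fun z : A => ((z : T) : Ω)) (mul_comm' (⟨u, hu⟩ : A) ⟨w, hw⟩))
    · rintro _ ⟨u, hu, rfl⟩
      rw [← map_pow, hA.2 u hu, map_one]
  · intro q hq
    exact Subtype.ext (by simpa using congrArg Subtype.val (hQexp ⟨_, hq⟩))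
  · rintro _ ⟨m, -, rfl⟩
    exact (ι m).2
  · rw [← Nat.card_congr (EM.equivMapOfInjective f hf).toEquiv,
      Nat.card_congr (Subgroup.subgroupOfEquivOfLe hEM).toEquiv, P.card]
  · rintro _ ⟨m, hm, rfl⟩ _ ⟨m', hm', rfl⟩
    rw [← map_mul, ← map_mul, show m * m' = m' * m from Subtype.ext (P.comm _ hm _ hm')]
  · by_contra hno
    push Not at hno
    have hle : T ≤ normalizerIn S E' := by
      intro g hg
      have key : ∀ g, g ∈ T → ∀ w ∈ E', g * w * g⁻¹ ∈ E' := by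
        rintro g hg _ ⟨m, hm, rfl⟩
        obtain ⟨m', hm', he⟩ := hno ⟨g, hg⟩ (f m) ⟨m, hm, rfl⟩
        exact ⟨m', hm', congrArg Subtype.val he⟩
      refine ⟨hg.1, Subgroup.mem_normalizer_iff.2 fun w => ⟨key g hg w, fun h => ?_⟩⟩
      simpa [mul_assoc] using key g⁻¹ (inv_mem hg) _ h
    haveI : Finite (normalizerIn S E') := finite_normalizerIn
    have := (Subgroup.card_le_of_le hle).trans hE'N
    rw [hTc] at this
    exact absurd this (not_le.2 (Nat.pow_lt_pow_right hpp.one_lt (by norm_num)))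
  · intro h
    exact P.k_ne (congrArg Subtype.val (hf (h.trans (map_one f).symm)))
  · rintro ⟨i, hi⟩
    refine P.l_not ⟨i, ?_⟩
    simpa using congrArg Subtype.val (hf ((map_zpow f kM i).trans hi))
  · rintro ⟨m, hm, he⟩
    exact P.x_not (hf he ▸ hm)
  · rw [← map_inv, ← map_mul, ← map_mul]; exact congrArg f (Subtype.ext P.conj_k)
  · rw [← map_inv, ← map_mul, ← map_mul, ← map_mul]; exact congrArg f (Subtype.ext P.conj_l)
  · intro q hq
    rw [show q = ⟨((⟨_, hq⟩ : Q) : Ω), hQT hq⟩ from rfl, hβ]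
    exact Subtype.coe_prop _
  · rintro _ ⟨m, hm, rfl⟩
    exact ⟨_, P.δ_E m hm, (hβf m).symm⟩
  · rw [hβf, ← map_pow]; exact congrArg f (Subtype.ext (P.δ_k _))
  · rw [hβf, ← map_pow]; exact congrArg f (Subtype.ext (P.δ_l _))
  · rw [hβf]
    exact ⟨(P.x ^ 4)⁻¹ * P.δ P.x, P.δ_x, by rw [map_mul, map_inv, map_pow]⟩

theorem resistant (hp5 : 5 ≤ p) (hS : IsPGroup p S) (hF : F.IsSaturated p)
    (hrk : ∀ T : Subgroup Ω, T ≤ S → Cfsg.IsElementaryAbelian p T → Nat.card T ≤ p ^ 2)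
    (hnotE : ¬ (Nat.card S = p ^ 3 ∧ Monoid.exponent S = p)) : F.IsNormal S :=
  hF.isNormal_of_invariant hS fun P hP => by
    rcases hP with rfl | hP
    · refine ⟨le_rfl, fun α _ => ?_⟩
      rw [Subgroup.subgroupOf_self]
      exact Subgroup.map_top_of_surjective _ α.surjective
    · exact absurd hP (not_essential hp5 hS hF hrk hnotE P)

end Cfsg.RankTwoResistant
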