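import Cfsg.Agent.Lib.Fusion.RankTwoResistant.Frame

/-!
Essential subgroups in a `p`-group of rank two, `p ≥ 5`: they are elementary of order `p²`.
-/

set_option autoImplicit false
set_option linter.unusedSectionVars false
set_option linter.style.haveILetI false

namespace Cfsg.RankTwoResistant

open Cfsg FusionSystem
open scoped commutatorElement

universe u

variable {Ω : Type u} [Group Ω] {S E : Subgroup Ω} [Finite S] {p : ℕ} [hp : Fact p.Prime] {F : FusionSystem S}

theorem false_of_inverted {X : Type*} [Group X] (hp2 : p ≠ 2) {x : X} (h : x ^ p = 1) (hx : x = x⁻¹) : x = 1 := by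
  have h2 : x ^ 2 = 1 := by rw [pow_two]; nth_rewrite 1 [hx]; exact inv_mul_cancel x
  have := pow_gcd_eq_one.mpr ⟨h, h2⟩
  rwa [(Nat.coprime_primes hp.out Nat.prime_two).mpr hp2, pow_one] at this

/-- An element outside the centre spans with it an elementary subgroup of order `p²`. -/
theorem center_sup {X : Type u} [Group X] [Finite X] (hexp : ∀ x : X, x ^ p = 1)
    (hab : ∀ A : Subgroup X, (∀ x ∈ A, ∀ y ∈ A, x * y = y * x) → Nat.card A ≤ p ^ 2)
    (hZ : Nat.card (Subgroup.center X) = p) {a : X} (ha : a ∉ Subgroup.center X) :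
    ∃ B : Subgroup X, Subgroup.center X ≤ B ∧ a ∈ B ∧ Nat.card B = p ^ 2 ∧
      (∀ x ∈ B, ∀ y ∈ B, x * y = y * x) ∧ ∀ b ∈ B, ∀ g : X, g * a = a * g → g * b = b * g := by
  set B := Subgroup.center X ⊔ Subgroup.zpowers a
  have hc : ∀ b ∈ B, ∀ g : X, g * a = a * g → g * b = b * g := by
    intro b hb g hg
    obtain ⟨c, hc, _, ⟨i, rfl⟩, rfl⟩ := Subgroup.mem_sup_of_normal_left.1 hb
    exact ((show Commute g c from Subgroup.mem_center_iff.1 hc g).mul_right
      ((show Commute g a from hg).zpow_right i)).eq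
  have hcomm : ∀ x ∈ B, ∀ y ∈ B, x * y = y * x := fun x hx y hy =>
    hc y hy x (hc x hx a rfl).symm
  refine ⟨B, le_sup_left, Subgroup.mem_sup_right (Subgroup.mem_zpowers a), le_antisymm (hab B hcomm) ?_, hcomm, hc⟩
  have hlt : Subgroup.center X < B :=
    lt_of_le_of_ne le_sup_left fun e => ha (e ▸ Subgroup.mem_sup_right (Subgroup.mem_zpowers a))
  have h1 : Nat.card (Subgroup.center X) < Nat.card B :=
    Set.Finite.card_lt_card (Set.toFinite _) (SetLike.coe_ssubset_coe.2 hlt)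
  have hXp : IsPGroup p X := fun x => ⟨1, by rw [pow_one, hexp]⟩
  obtain ⟨n, hn⟩ := IsPGroup.iff_card.1 (hXp.to_subgroup B)
  rw [hZ, hn] at h1
  rw [hn]
  exact Nat.pow_le_pow_right hp.out.pos ((Nat.pow_lt_pow_iff_right hp.out.one_lt).1 (by rwa [pow_one]))

/-- The conjugation maps of the normaliser generate with `E` its whole group. -/
theorem commutator_le_of_cover {X : Type u} [Group X] [Finite X] (K : Subgroup X) [K.Normal] (g : X) (C : Subgroup X)
    (hgC : ∀ c ∈ C, g * c = c * g) (hC : ∀ a ∈ C, ∀ b ∈ C, a * b * (b * a)⁻¹ ∈ K)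
    (hcov : ∀ m : X, ∃ (i : ℕ) (u c : X), u ∈ K ∧ c ∈ C ∧ m = g ^ i * (u * c)) : commutator X ≤ K := by
  rw [commutator_def, Subgroup.commutator_le]
  intro a _ b _
  obtain ⟨i, u, c, hu, hc, rfl⟩ := hcov a
  obtain ⟨j, v, d, hv, hd, rfl⟩ := hcov b
  rw [← QuotientGroup.eq_one_iff]
  show (QuotientGroup.mk' K) ⁅g ^ i * (u * c), g ^ j * (v * d)⁆ = 1
  rw [map_commutatorElement, commutatorElement_eq_one_iff_mul_comm]
  have h0 : ∀ w ∈ K, QuotientGroup.mk' K w = 1 := fun w hw => (QuotientGroup.eq_one_iff w).2 hw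
  simp only [map_mul, map_pow, h0 u hu, h0 v hv, one_mul]
  have hgc : ∀ c ∈ C, Commute (QuotientGroup.mk' K g) (QuotientGroup.mk' K c) := fun c hc =>
    (show Commute g c from hgC c hc).map _
  have hcd : Commute (QuotientGroup.mk' K c) (QuotientGroup.mk' K d) := by
    have := h0 _ (hC c hc d hd)
    rw [map_mul, map_inv, map_mul, map_mul, mul_inv_eq_one] at this
    exact this
  exact ((((Commute.refl (QuotientGroup.mk' K g)).pow_pow i j).mul_right ((hgc d hd).pow_left i)).mul_left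
    ((((hgc c hc).symm).pow_right j).mul_right hcd)).eq

/-- The shape of an essential subgroup. -/
structure Shape (F : FusionSystem S) (p : ℕ) (E : Subgroup Ω) where
  k : Ω
  l : Ω
  x : normalizerIn S E
  δ : MulAut ↥(normalizerIn S E)
  kE : k ∈ E
  lE : l ∈ E
  x_not : (x : Ω) ∉ E
  k_ne : k ≠ 1
  l_not : l ∉ Subgroup.zpowers k
  comm : ∀ a ∈ E, ∀ b ∈ E, a * b = b * a
  card : Nat.card E = p ^ 2
  cardN : Nat.card (normalizerIn S E) = p ^ 3
  expN : ∀ m : normalizerIn S E, m ^ p = 1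
  conj_k : (x : Ω) * k * (x : Ω)⁻¹ = k
  conj_l : (x : Ω) * l * (x : Ω)⁻¹ = l * k
  δ_k : ∀ h : k ∈ normalizerIn S E, ((δ ⟨k, h⟩ : normalizerIn S E) : Ω) = k ^ 2
  δ_l : ∀ h : l ∈ normalizerIn S E, ((δ ⟨l, h⟩ : normalizerIn S E) : Ω) = l ^ ((p + 1) / 2)
  δ_E : ∀ m : normalizerIn S E, (m : Ω) ∈ E → ((δ m : normalizerIn S E) : Ω) ∈ E
  δ_x : (((x ^ 4)⁻¹ * δ x : normalizerIn S E) : Ω) ∈ E
  δ_mem : δ ∈ F.autGroup (normalizerIn S E)

variable (hp5 : 5 ≤ p) (hS : IsPGroup p S) (hF : F.IsSaturated p)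
  (hrk : ∀ T : Subgroup Ω, T ≤ S → Cfsg.IsElementaryAbelian p T → Nat.card T ≤ p ^ 2)
include hp5 hS hF hrk

theorem shape_of_sq (hE : F.IsEssential p E) (hES : E ≤ S) (D : Subgroup E) [D.Characteristic]
    (hexp : ∀ d : D, d ^ p = 1) (hcard : Nat.card D = p ^ 2)
    (hdet : ∀ α : MulAut E, (orderOf α).Coprime p → (∀ d ∈ D, α d = d) → α = 1) :
    Nonempty (Shape F p E) := by
  have hpp := hp.out
  haveI : Finite E := finite_of_le hES
  haveI : Finite (normalizerIn S E) := finite_normalizerIn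
  have hp2 : p ≠ 2 := by omega
  have hpE : IsPGroup p E := hS.to_le hES
  obtain ⟨P⟩ := exists_data hp5 hS hF hE hES D ⊥ (by rw [Subgroup.index_bot, hcard]) hexp hdet
    (fun β _ n hn => by rw [Subgroup.mem_bot.mp hn, map_one])
  have hDc : ∀ a b : D, a * b = b * a := IsPGroup.commutative_of_card_eq_prime_sq hcard
  have hcent : ∀ (e : E) (d : D), e * (d : E) = (d : E) * e := fun e d => by
    have h := P.inn e d ⟨e * (d : E) * e⁻¹, (inferInstance : D.Normal).conj_mem _ d.2 e⟩ rfl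
    rw [Subgroup.mem_bot, inv_mul_eq_one] at h
    exact (mul_inv_eq_iff_eq_mul.1 (congrArg Subtype.val h).symm)
  set B := D.map E.subtype with hB
  have hBS : B ≤ S := (Subgroup.map_subtype_le D).trans hES
  have hBc : Nat.card B = p ^ 2 := by
    rw [← hcard]; exact Nat.card_congr (D.equivMapOfInjective _ E.subtype_injective).toEquiv.symm
  have hBe : Cfsg.IsElementaryAbelian p B := by
    refine ⟨⟨⟨?_⟩⟩, ?_⟩
    · rintro ⟨_, a, ha, rfl⟩ ⟨_, b, hb, rfl⟩
      exact Subtype.ext (congrArg (fun z : D => ((z : E) : Ω)) (hDc ⟨a, ha⟩ ⟨b, hb⟩))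
    · rintro _ ⟨a, ha, rfl⟩
      exact congrArg (fun z : D => ((z : E) : Ω)) (hexp ⟨a, ha⟩)
  have hordp : ∀ e : E, e ^ p = 1 → e ∈ D := fun e he => by
    have h := rank_extend hrk hBS hBe hBc (hES e.2) (by simpa using congrArg Subtype.val he)
      (by rintro _ ⟨a, ha, rfl⟩; exact (congrArg Subtype.val (hcent e ⟨a, ha⟩)).symm)
    obtain ⟨a, ha, hae⟩ := h
    rwa [← Subtype.ext hae]
  have hinvD : ∀ d ∈ D, P.τE d = d⁻¹ := fun d hd => by
    have h := P.τ_inv ⟨d, hd⟩
    rw [Subgroup.mem_bot] at h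
    exact eq_inv_of_mul_eq_one_right (congrArg Subtype.val h)
  have hfpf : ∀ e : E, P.τE e = e → e = 1 := by
    intro e he
    by_contra hne
    obtain ⟨t, ht⟩ := IsPGroup.iff_orderOf.1 hpE e
    have ht0 : t ≠ 0 := fun h => hne (orderOf_eq_one_iff.1 (by rw [ht, h, pow_zero]))
    obtain ⟨q, rfl⟩ := Nat.exists_eq_succ_of_ne_zero ht0
    have he2 : (e ^ p ^ q) ^ p = 1 := by rw [← pow_mul, ← pow_succ, ← Nat.succ_eq_add_one, ← ht, pow_orderOf_eq_one]
    have h1 : e ^ p ^ q = (e ^ p ^ q)⁻¹ := by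
      rw [← hinvD _ (hordp _ he2), map_pow, he]
    have h2 := orderOf_dvd_of_pow_eq_one (false_of_inverted hp2 he2 h1)
    rw [ht] at h2
    have := (Nat.pow_dvd_pow_iff_le_right hpp.one_lt).1 h2
    omega
  have hττ : ∀ e, P.τE (P.τE e) = e := fun e => by rw [← MulAut.mul_apply, P.τ_sq, MulAut.one_apply]
  have hinv : ∀ e, P.τE e = e⁻¹ := by
    have hinj : Function.Injective fun e : E => e⁻¹ * P.τE e := by
      intro a b h
      have h' : a⁻¹ * P.τE a = b⁻¹ * P.τE b := h
      have : P.τE (b * a⁻¹) = b * a⁻¹ := by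
        rw [map_mul, map_inv, mul_inv_eq_iff_eq_mul, mul_assoc, h', mul_inv_cancel_left]
      exact (mul_inv_eq_one.1 (hfpf _ this)).symm
    intro e
    obtain ⟨b, rfl⟩ := Finite.surjective_of_injective hinj e
    rw [map_mul, map_inv, hττ, mul_inv_rev, inv_inv]
  have hab : ∀ a b : E, a * b = b * a := fun a b => by
    have h := hinv (b⁻¹ * a⁻¹)
    rw [map_mul, hinv, hinv, inv_inv, inv_inv, mul_inv_rev, inv_inv, inv_inv] at h
    exact h.symm
  -- exponent `p`
  have hidx : (EssentialSmall.agemo p E hab).index ≤ p ^ 2 := by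
    let f : E →* E :=
      { toFun := fun x => x ^ p
        map_one' := one_pow p
        map_mul' := fun a b => (show Commute a b from hab a b).mul_pow p }
    have hr : f.range = EssentialSmall.agemo p E hab := by ext; exact Iff.rfl
    have h1 := f.ker.card_mul_index
    have h2 := f.range.card_mul_index
    rw [Subgroup.index_ker] at h1
    have hk : Nat.card f.ker ≤ p ^ 2 := by
      rw [← hcard]
      exact Nat.card_le_card_of_injective (Subgroup.inclusion fun x hx => hordp x hx) (Subgroup.inclusion_injective _)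
    rw [← hr]
    refine le_trans (le_of_eq (Nat.eq_of_mul_eq_mul_left (Nat.card_pos (α := f.range)) ?_)) hk
    rw [h2, mul_comm, h1]
  have hidx2 := EssentialSmall.index_agemo hS hF hE hab hidx
  obtain ⟨a, ha1, hexpa, hmem, -⟩ := EssentialSmall.homocyclic hS hF hE hidx2
  have ha : a = 1 := le_antisymm (EssentialSmall.exponent_eq_one_of_five_le hS hF hE hidx2 hp5 hmem) ha1
  subst ha
  simp only [pow_one] at hexpa
  have hDtop : D = ⊤ := eq_top_iff.2 fun e _ => hordp e (hexpa e)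
  have hEc : Nat.card E = p ^ 2 := by rw [← hcard, hDtop, Subgroup.card_top]
  have hNc : Nat.card (normalizerIn S E) = p ^ 3 := by rw [P.card, hEc, ← pow_succ]
  -- exponent of the normaliser
  have hgp : P.g ^ p = 1 := by
    set e : E := ⟨_, P.g_pow⟩ with he
    have h1 : (⟨e, le_normalizerIn hES e.2⟩ : normalizerIn S E) = P.g ^ p := rfl
    have h2 : P.τE e = e := Subtype.ext (by
      rw [← P.τ_res, h1, map_pow, P.τ_fix])
    exact Subtype.ext (congrArg (fun z : E => (z : Ω)) (hfpf e h2))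
  set EN := E.subgroupOf (normalizerIn S E) with hEN
  haveI : EN.Normal := Subgroup.normal_subgroupOf_of_le_normalizer fun m hm => hm.2
  have hNp : IsPGroup p (normalizerIn S E) := hS.to_le normalizerIn_le
  have hcomm : commutator (normalizerIn S E) ≤ EN := by
    refine commutator_le_of_cover EN P.g ⊥ (fun c hc => by rw [Subgroup.mem_bot.1 hc]; simp)
      (fun a ha b hb => by rw [Subgroup.mem_bot.1 ha, Subgroup.mem_bot.1 hb]; simp) fun m => ?_
    obtain ⟨i, hi⟩ := P.cover m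
    exact ⟨i, (P.g ^ i)⁻¹ * m, 1, hi, one_mem _, by group⟩
  have hR1 : CfsgLib.Regular.R1 p (normalizerIn S E) := by
    refine r1_of_derived hp5 hNp ?_
    rw [← hNc]
    exact Subgroup.card_le_card_group _
  have hexpN : ∀ m : normalizerIn S E, m ^ p = 1 := by
    intro m
    have hcp : ∀ c ∈ EN, c ^ p = 1 := fun c hc =>
      Subtype.ext (by simpa using congrArg (fun z : E => (z : Ω)) (hexpa ⟨c, hc⟩))
    obtain ⟨i, hi⟩ := P.cover m
    rw [show m = P.g ^ i * ((P.g ^ i)⁻¹ * m) by group,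
      CfsgLib.Regular.mul_pow_of_exponent hR1 (fun c hc => hcp c (hcomm hc)), ← pow_mul, mul_comm, pow_mul, hgp,
      one_pow, one_mul, hcp _ hi]
  have hconj : ∀ d : D, (P.g : Ω) * ((d : E) : Ω) * (P.g : Ω)⁻¹ ∈ E := fun d =>
    (Subgroup.mem_normalizer_iff.1 P.g.2.2 _).1 (d : E).2
  refine ⟨{
    k := ((P.k : E) : Ω)
    l := ((P.l : E) : Ω)
    x := P.g
    δ := P.δ
    kE := (P.k : E).2
    lE := (P.l : E).2
    x_not := P.g_not
    k_ne := fun h => P.k_not (Subgroup.mem_bot.2 (Subtype.ext (Subtype.ext h)))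
    l_not := fun ⟨i, hi⟩ => P.l_not (Subgroup.mem_sup_right ⟨i, Subtype.ext (Subtype.ext (by simpa using hi))⟩)
    comm := fun a ha b hb => congrArg (fun z : E => (z : Ω)) (hab ⟨a, ha⟩ ⟨b, hb⟩)
    card := hEc
    cardN := hNc
    expN := hexpN
    conj_k := ?_
    conj_l := ?_
    δ_k := fun h => ?_
    δ_l := fun h => ?_
    δ_E := fun m hm => ?_
    δ_x := P.δ_g
    δ_mem := P.δ_memN }⟩
  · have h := P.act_k ⟨⟨_, hconj P.k⟩, hDtop.ge (Subgroup.mem_top _)⟩ rfl
    rw [Subgroup.mem_bot, inv_mul_eq_one] at h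
    exact (congrArg (fun z : D => ((z : E) : Ω)) h).symm
  · have h := P.act_l ⟨⟨_, hconj P.l⟩, hDtop.ge (Subgroup.mem_top _)⟩ rfl
    rw [Subgroup.mem_bot, inv_mul_eq_one] at h
    exact (congrArg (fun z : D => ((z : E) : Ω)) h).symm
  · have h1 := P.δ_k
    rw [Subgroup.mem_bot, inv_mul_eq_one] at h1
    rw [show (⟨((P.k : E) : Ω), h⟩ : normalizerIn S E) = ⟨((P.k : E) : Ω), le_normalizerIn hES (P.k : E).2⟩ from rfl, P.δ_res]
    exact (congrArg (fun z : D => ((z : E) : Ω)) h1).symm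
  · have h1 := P.δ_l
    rw [Subgroup.mem_bot, inv_mul_eq_one] at h1
    rw [show (⟨((P.l : E) : Ω), h⟩ : normalizerIn S E) = ⟨((P.l : E) : Ω), le_normalizerIn hES (P.l : E).2⟩ from rfl, P.δ_res]
    exact (congrArg (fun z : D => ((z : E) : Ω)) h1).symm
  · rw [show m = ⟨((⟨m, hm⟩ : E) : Ω), le_normalizerIn hES hm⟩ from rfl, P.δ_res]
    exact Subtype.coe_prop _

theorem false_of_cube (hE : F.IsEssential p E) (hES : E ≤ S) (D : Subgroup E) [D.Characteristic]
    (hexp : ∀ d : D, d ^ p = 1) (hcard : Nat.card D = p ^ 3) (hnab : ¬ ∀ a b : D, a * b = b * a)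
    (hab : ∀ A : Subgroup D, (∀ x ∈ A, ∀ y ∈ A, x * y = y * x) → Nat.card A ≤ p ^ 2)
    (hdet : ∀ α : MulAut E, (orderOf α).Coprime p → (∀ d ∈ D, α d = d) → α = 1) :
    False := by
  have hpp := hp.out
  haveI : Finite E := finite_of_le hES
  haveI : Finite (normalizerIn S E) := finite_normalizerIn
  have hp2 : p ≠ 2 := by omega
  obtain ⟨hZc, hidx, -, -⟩ := heis_basic hcard hnab
  obtain ⟨P⟩ := exists_data hp5 hS hF hE hES D (Subgroup.center D) hidx hexp hdet
    (fun β hβ => heis_fix_center hcard hnab hβ)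
  obtain ⟨hzm, hz1, hgen⟩ := heis_gen hcard hnab P.k_not P.l_not
  set z := P.k * P.l * P.k⁻¹ * P.l⁻¹ with hz
  let C : Subgroup E := Subgroup.centralizer (D : Set E)
  -- every element is a product
  have hEDC : ∀ e : E, ∃ (u : D) (c : E), c ∈ C ∧ e = (u : E) * c := by
    intro e
    obtain ⟨u, hu⟩ := heis_inner hcard hnab (β := resD D (MulAut.conj e))
      fun x => P.inn e x _ rfl
    refine ⟨u, (u : E)⁻¹ * e, fun d hd => ?_, (mul_inv_cancel_left _ _).symm⟩
    have h : e * d * e⁻¹ = (u : E) * d * (u : E)⁻¹ := congrArg (fun w : D => (w : E)) (hu ⟨d, hd⟩)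
    calc d * ((u : E)⁻¹ * e) = (u : E)⁻¹ * ((u : E) * d * (u : E)⁻¹) * e := by group
      _ = (u : E)⁻¹ * (e * d * e⁻¹) * e := by rw [h]
      _ = (u : E)⁻¹ * e * d := by group
  have hDC : ∀ d : D, (d : E) ∈ C ↔ d ∈ Subgroup.center D := fun d =>
    ⟨fun h => Subgroup.mem_center_iff.2 fun g => Subtype.ext (h g g.2),
      fun h g hg => congrArg (fun w : D => (w : E)) (Subgroup.mem_center_iff.1 h ⟨g, hg⟩)⟩
  -- elementary subgroups of order `p²`
  have hbig : ∀ a : D, a ∉ Subgroup.center D → ∀ y : Ω, y ∈ S → y ^ p = 1 →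
      y * ((a : E) : Ω) = ((a : E) : Ω) * y →
      (∀ n ∈ Subgroup.center D, y * ((n : E) : Ω) = ((n : E) : Ω) * y) → ∃ d : D, ((d : E) : Ω) = y := by
    intro a ha y hy hyp hya hyn
    obtain ⟨B, hZB, haB, hBc, hBcomm, -⟩ := center_sup hexp hab hZc ha
    let f : D →* Ω := E.subtype.comp D.subtype
    have hf : Function.Injective f := E.subtype_injective.comp D.subtype_injective
    have hgenB : ∀ b ∈ B, b ∈ Subgroup.center D ⊔ Subgroup.zpowers a := by
      have : Subgroup.center D ⊔ Subgroup.zpowers a = B := by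
        refine Subgroup.eq_of_le_of_card_ge (sup_le hZB (Subgroup.zpowers_le.2 haB)) ?_
        rw [hBc]
        have hlt : Subgroup.center D < Subgroup.center D ⊔ Subgroup.zpowers a :=
          lt_of_le_of_ne le_sup_left fun e => ha (e ▸ Subgroup.mem_sup_right (Subgroup.mem_zpowers a))
        have h1 := Set.Finite.card_lt_card (Set.toFinite _) (SetLike.coe_ssubset_coe.2 hlt)
        have hDp : IsPGroup p D := IsPGroup.of_card hcard
        obtain ⟨n, hn⟩ := IsPGroup.iff_card.1 (hDp.to_subgroup (Subgroup.center D ⊔ Subgroup.zpowers a))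
        change Nat.card (Subgroup.center D) < Nat.card (Subgroup.center D ⊔ Subgroup.zpowers a : Subgroup D) at h1
        rw [hZc, hn] at h1
        rw [hn]
        exact Nat.pow_le_pow_right hpp.pos ((Nat.pow_lt_pow_iff_right hpp.one_lt).1 (by rwa [pow_one]))
      exact fun b hb => this.ge hb
    have hBS : B.map f ≤ S := by
      rintro _ ⟨b, -, rfl⟩
      exact hES (b : E).2
    have hBe : Cfsg.IsElementaryAbelian p (B.map f) := by
      refine ⟨⟨⟨?_⟩⟩, ?_⟩
      · rintro ⟨_, u, hu, rfl⟩ ⟨_, v, hv, rfl⟩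
        exact Subtype.ext (by rw [Subgroup.coe_mul, Subgroup.coe_mul, ← map_mul, ← map_mul, hBcomm u hu v hv])
      · rintro _ ⟨b, -, rfl⟩
        rw [← map_pow, hexp, map_one]
    obtain ⟨d, -, hd⟩ := rank_extend hrk hBS hBe
      (by rw [← hBc]; exact Nat.card_congr (B.equivMapOfInjective f hf).toEquiv.symm) hy hyp
      (by
        rintro _ ⟨b, hb, rfl⟩
        obtain ⟨n, hn, _, ⟨i, rfl⟩, rfl⟩ := Subgroup.mem_sup_of_normal_left.1 (hgenB b hb)
        show f (n * a ^ i) * y = y * f (n * a ^ i)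
        rw [map_mul, map_zpow]
        exact ((show Commute (f n) y from (hyn n hn).symm).mul_left
          ((show Commute (f a) y from hya.symm).zpow_left i)).eq)
    exact ⟨d, hd⟩
  have hCp : ∀ y ∈ C, y ^ p = 1 → ∃ i : ℕ, y = ((z ^ i : D) : E) := by
    intro y hy hyp
    obtain ⟨d, hd⟩ := hbig P.k P.k_not y (hES y.2) (by simpa using congrArg Subtype.val hyp)
      (congrArg Subtype.val (hy P.k P.k.2).symm) (fun n hn => congrArg Subtype.val (hy n n.2).symm)
    have hde : (d : E) = y := Subtype.ext hd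
    obtain ⟨i, hi⟩ := hgen d ((hDC d).1 (hde ▸ hy))
    exact ⟨i, by rw [← hde, hi]⟩
  haveI : C.Characteristic := inferInstance
  -- automorphisms of order prime to `p` fixing `z` fix `C`
  have hfixC : ∀ α : MulAut E, (orderOf α).Coprime p → resD D α z = z → ∀ c ∈ C, α c = c := by
    intro α hα hαz c hc
    have hco : (orderOf (resD C α)).Coprime p := hα.coprime_dvd_left (orderOf_map_dvd (resD C) α)
    have h1 := CfsgLib.Small.eq_one_of_fixes_small ((hS.to_le hES).to_subgroup C) hco fun y hy => by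
      have hy' : y ^ p = 1 := by rwa [CfsgLib.Small.smallExp, if_neg hp2] at hy
      obtain ⟨i, hi⟩ := hCp y y.2 (by simpa using congrArg Subtype.val hy')
      refine Subtype.ext ?_
      rw [coe_resD, hi, ← coe_resD, map_pow, hαz]
    exact congrArg (fun f : MulAut C => ((f ⟨c, hc⟩ : C) : E)) h1
  have hτz : resD D P.τE z = z := by
    have hz' : z ^ p = 1 := hexp z
    have hinv : ∀ x : D, (x ^ (p - 1))⁻¹ * resD D P.τE x ∈ Subgroup.center D := fun x => by
      rw [show (x ^ (p - 1))⁻¹ = x from inv_eq_of_mul_eq_one_right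
        (by rw [← pow_succ, Nat.sub_add_cancel hpp.one_lt.le, hexp])]
      exact P.τ_inv x
    rw [hz, heis_det hcard hnab (hinv P.k) (hinv P.l), ← hz, pow_eq_pow_mod _ hz']
    obtain ⟨q, hq⟩ : ∃ q, p = q + 2 := ⟨p - 2, by omega⟩
    rw [show (p - 1) * (p - 1) = 1 + p * q by subst hq; simp; ring, Nat.add_mul_mod_self_left,
      Nat.one_mod_eq_one.2 hpp.ne_one, pow_one]
  have hδz : resD D P.δE z = z := by
    rw [hz, heis_det hcard hnab P.δ_k P.δ_l, ← hz, pow_eq_pow_mod _ (hexp z)]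
    obtain ⟨t, ht⟩ := hpp.odd_of_ne_two hp2
    rw [show 2 * ((p + 1) / 2) = 1 + p by omega, Nat.add_mod_right, Nat.one_mod_eq_one.2 hpp.ne_one, pow_one]
  have hτC : ∀ c ∈ C, P.τE c = c := hfixC _ (Nat.Coprime.coprime_dvd_left
    (orderOf_dvd_of_pow_eq_one (by rw [pow_two, P.τ_sq] : P.τE ^ 2 = 1))
    ((Nat.coprime_primes Nat.prime_two hpp).2 (Ne.symm hp2))) hτz
  have hδC : ∀ c ∈ C, P.δE c = c := hfixC _ P.δ_coprime hδz
  let ι : E →* normalizerIn S E := Subgroup.inclusion (le_normalizerIn hES)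
  have hτι : ∀ e, P.τ (ι e) = ι (P.τE e) := fun e => Subtype.ext (P.τ_res e)
  have hδι : ∀ e, P.δ (ι e) = ι (P.δE e) := fun e => Subtype.ext (P.δ_res e)
  set x := P.g with hx
  -- the `p`-th power of `x` is in `C`
  set y : E := ⟨_, P.g_pow⟩ with hy
  have hyx : ι y = x ^ p := rfl
  have hyC : y ∈ C := by
    obtain ⟨u, c, hc, hyuc⟩ := hEDC y
    have h1 : P.τE y = y := by
      refine Subgroup.inclusion_injective (le_normalizerIn hES) ?_
      show ι (P.τE y) = ι y
      rw [← hτι, hyx, map_pow, P.τ_fix]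
    rw [hyuc, map_mul, hτC c hc, mul_left_inj] at h1
    have h2 : u * u ∈ Subgroup.center D := by
      have := P.τ_inv u
      rwa [show resD D P.τE u = u from Subtype.ext h1] at this
    obtain ⟨t, ht⟩ := hpp.odd_of_ne_two hp2
    have h3 : u ∈ Subgroup.center D := by
      have := pow_mem h2 (t + 1)
      rwa [← pow_two, ← pow_mul, show 2 * (t + 1) = p + 1 by omega, pow_succ, hexp, one_mul] at this
    rw [hyuc]
    exact C.mul_mem ((hDC u).2 h3) hc
  -- `x` centralises `C`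
  obtain ⟨e₁, he₁⟩ : ∃ e₁ : E, P.δ x = x ^ 4 * ι e₁ :=
    ⟨⟨_, P.δ_g⟩, by rw [show ι ⟨_, P.δ_g⟩ = (x ^ 4)⁻¹ * P.δ x from rfl, mul_inv_cancel_left]⟩
  obtain ⟨u₁, c₁, hc₁, he₁'⟩ := hEDC e₁
  haveI hCcyc : IsCyclic C := by
    have hzC : (z : E) ∈ C := (hDC z).2 hzm
    have hzo : orderOf (⟨(z : E), hzC⟩ : C) = p :=
      orderOf_eq_prime (Subtype.ext (congrArg (fun w : D => (w : E)) (hexp z)))
        fun h => hz1 (Subtype.ext (congrArg (fun w : C => (w : E)) h))
    refine ((CfsgLib.UniqueSubgroup.cyclic_or_quaternion ((hS.to_le hES).to_subgroup C) hzo fun v hv => ?_)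
      ).resolve_right fun h => hp2 h.1
    obtain ⟨i, hi⟩ := hCp v v.2 (congrArg (fun w : C => (w : E)) hv)
    exact ⟨(i : ℤ), Subtype.ext (by simp [hi])⟩
  have hCab : ∀ c ∈ C, ∀ c' ∈ C, Commute c c' := fun c hc c' hc' => by
    letI := IsCyclic.commGroup (α := C)
    exact congrArg (fun w : C => (w : E)) (mul_comm (⟨c, hc⟩ : C) ⟨c', hc'⟩)
  let α : MulAut E := ((conjA F E hES x : F.autGroup E) : MulAut E)
  have hαι : ∀ e : E, x * ι e * x⁻¹ = ι (α e) := fun e => Subtype.ext rfl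
  have hxC : ∀ c ∈ C, Commute x (ι c) := by
    intro c hc
    have h0 : x * ι c * x⁻¹ = ι (α c) := hαι c
    have hαc : α c ∈ C := CfsgLib.Small.apply_mem_of_char α hc
    have h1 := congrArg P.δ h0
    rw [map_mul, map_mul, map_inv, hδι, hδι, hδC c hc, hδC _ hαc, he₁] at h1
    have hec : Commute (ι e₁) (ι c) := by
      refine Commute.map ?_ ι
      rw [he₁']
      exact (show Commute (u₁ : E) c from hc u₁ u₁.2).mul_left (hCab c₁ hc₁ c hc)
    have h2 : x ^ 4 * ι c * (x ^ 4)⁻¹ = x * ι c * x⁻¹ := by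
      rw [h0, ← h1, mul_inv_rev]
      calc x ^ 4 * ι c * (x ^ 4)⁻¹ = x ^ 4 * (ι c * ι e₁ * (ι e₁)⁻¹) * (x ^ 4)⁻¹ := by group
        _ = x ^ 4 * (ι e₁ * ι c * (ι e₁)⁻¹) * (x ^ 4)⁻¹ := by rw [hec.eq]
        _ = _ := by group
    have h3 : x ^ 3 ∈ Subgroup.centralizer ({ι c} : Set (normalizerIn S E)) := by
      rw [Subgroup.mem_centralizer_singleton_iff]
      calc x ^ 3 * ι c = x⁻¹ * (x ^ 4 * ι c * (x ^ 4)⁻¹) * x ^ 4 := by group
        _ = x⁻¹ * (x * ι c * x⁻¹) * x ^ 4 := by rw [h2]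
        _ = ι c * x ^ 3 := by group
    have h4 : x ^ p ∈ Subgroup.centralizer ({ι c} : Set (normalizerIn S E)) := by
      rw [Subgroup.mem_centralizer_singleton_iff, ← hyx]
      exact ((hCab y hyC c hc).map ι).eq
    obtain ⟨a, b, hab'⟩ : IsCoprime (3 : ℤ) (p : ℤ) := Nat.isCoprime_iff_coprime.2
      ((Nat.coprime_primes Nat.prime_three hpp).2 (by omega))
    have h5 := mul_mem (Subgroup.zpow_mem _ h3 a) (Subgroup.zpow_mem _ h4 b)
    rw [← zpow_natCast x 3, ← zpow_natCast x p, ← zpow_mul, ← zpow_mul, ← zpow_add,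
      show ((3 : ℕ) : ℤ) * a + (p : ℤ) * b = 1 by push_cast; linear_combination hab', zpow_one,
      Subgroup.mem_centralizer_singleton_iff] at h5
    exact h5
  by_cases hroot : ∃ c ∈ C, c ^ p = y
  · -- an element of order `p` outside `E` centralising an elementary subgroup of order `p²`
    obtain ⟨c, hc, hcy⟩ := hroot
    set x' := x * (ι c)⁻¹ with hx'
    have hx'p : x' ^ p = 1 := by
      rw [hx', (hxC c hc).inv_right.mul_pow, inv_pow, ← map_pow, hcy, hyx, mul_inv_cancel]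
    have hτx' : P.τ x' = x' := by rw [hx', map_mul, map_inv, P.τ_fix, hτι, hτC c hc]
    set n := P.k * resD D P.τE P.k with hn
    have hnm : n ∈ Subgroup.center D := P.τ_inv P.k
    set d := (p + 1) / 2 with hd
    set m := (n⁻¹) ^ d with hm
    have hmm : m ∈ Subgroup.center D := pow_mem (inv_mem hnm) d
    have hmτ : resD D P.τE m = m := Subtype.ext (hτC _ ((hDC m).2 hmm))
    set a := P.k * m with ha
    have hτa : resD D P.τE a = a⁻¹ := by
      apply eq_inv_of_mul_eq_one_right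
      have hm2 : m * m = n⁻¹ := by
        obtain ⟨t, ht⟩ := hpp.odd_of_ne_two hp2
        rw [hm, ← pow_add, show d + d = p + 1 by omega, pow_succ, hexp, one_mul]
      rw [ha, map_mul, hmτ]
      calc P.k * m * (resD D P.τE P.k * m) = P.k * (resD D P.τE P.k * m) * m := by
            rw [mul_assoc P.k m, ← Subgroup.mem_center_iff.1 hmm (resD D P.τE P.k * m), ← mul_assoc]
        _ = n * (m * m) := by rw [hn]; group
        _ = 1 := by rw [hm2, mul_inv_cancel]
    have haZ : a ∉ Subgroup.center D := fun h => P.k_not (by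
      rw [show P.k = a * m⁻¹ by rw [ha, mul_inv_cancel_right]]
      exact mul_mem h (inv_mem hmm))
    set w := resD D α a with hw
    set n₁ := a⁻¹ * w with hn₁
    have hn₁m : n₁ ∈ Subgroup.center D := by
      have h1 : P.k⁻¹ * resD D α P.k ∈ Subgroup.center D := P.act_k _ rfl
      have h2 : resD D α m = m := by
        refine Subtype.ext (Subgroup.inclusion_injective (le_normalizerIn hES) ?_)
        show ι (α (m : E)) = ι (m : E)
        rw [← hαι, (hxC _ ((hDC m).2 hmm)).eq, mul_inv_cancel_right]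
      rw [hn₁, hw, ha, map_mul, h2, mul_inv_rev, mul_assoc, ← mul_assoc P.k⁻¹]
      exact mul_mem (inv_mem hmm) (mul_mem h1 hmm)
    have hx'a : x' * ι (a : E) * x'⁻¹ = ι (w : E) := by
      have hca : Commute (ι c) (ι (a : E)) := ((show Commute (a : E) c from hc a a.2).map ι).symm
      rw [hx', mul_inv_rev, inv_inv]
      calc x * (ι c)⁻¹ * ι (a : E) * (ι c * x⁻¹) = x * ((ι c)⁻¹ * ι (a : E) * ι c) * x⁻¹ := by group
        _ = x * ι (a : E) * x⁻¹ := by rw [mul_assoc (ι c)⁻¹, ← hca.eq, inv_mul_cancel_left]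
        _ = ι (w : E) := hαι _
    have hn₁1 : n₁ = 1 := by
      have hwn : w = a * n₁ := by rw [hn₁, mul_inv_cancel_left]
      have h1 := congrArg P.τ hx'a
      rw [map_mul, map_mul, map_inv, hτι, hτx', hτι,
        show P.τE (a : E) = ((resD D P.τE a : D) : E) from rfl, hτa] at h1
      have h2 : (w⁻¹ : D) = resD D P.τE w := by
        refine Subtype.ext (Subgroup.inclusion_injective (le_normalizerIn hES) ?_)
        show ι ((w : E)⁻¹) = ι (P.τE (w : E))
        rw [← h1, map_inv, ← hx'a, Subgroup.coe_inv, map_inv]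
        group
      have h3 : resD D P.τE n₁ = n₁ := Subtype.ext (hτC _ ((hDC n₁).2 hn₁m))
      rw [hwn, map_mul, hτa, h3, mul_inv_rev, Subgroup.mem_center_iff.1 hn₁m a⁻¹, mul_left_inj] at h2
      exact false_of_inverted hp2 (hexp n₁) h2.symm
    rw [show w = a by rw [← mul_inv_cancel_left a w, ← hn₁, hn₁1, mul_one]] at hx'a
    obtain ⟨d', hd'⟩ := hbig a haZ (x' : Ω) (x'.2.1) (by simpa using congrArg Subtype.val hx'p)
      (congrArg Subtype.val (mul_inv_eq_iff_eq_mul.1 hx'a))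
      (fun n hn => by
        refine congrArg Subtype.val (show x' * ι (n : E) = ι (n : E) * x' from ?_)
        exact ((hxC _ ((hDC n).2 hn)).mul_left (((hCab c hc _ ((hDC n).2 hn)).map ι).inv_left)).eq)
    refine P.g_not ?_
    have hx'E : (x' : Ω) ∈ E := hd' ▸ (d' : E).2
    have := E.mul_mem hx'E c.2
    have e : (x' : Ω) * ((c : E) : Ω) = (x : Ω) := by
      rw [hx']
      show (x : Ω) * ((c : E) : Ω)⁻¹ * ((c : E) : Ω) = x
      group
    rwa [e] at this
  · -- the torus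
    apply hroot
    have hNp : IsPGroup p (normalizerIn S E) := hS.to_le normalizerIn_le
    set DN := (D.map ι) with hDN
    haveI : DN.Normal := ⟨by
      rintro _ ⟨e, he, rfl⟩ g
      exact ⟨((conjA F E hES g : F.autGroup E) : MulAut E) e, CfsgLib.Small.apply_mem_of_char _ he, Subtype.ext rfl⟩⟩
    have hι : Function.Injective ι := Subgroup.inclusion_injective (le_normalizerIn hES)
    have hcomm : commutator (normalizerIn S E) ≤ DN := by
      refine commutator_le_of_cover DN x (C.map ι) ?_ ?_ fun g => ?_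
      · rintro _ ⟨c, hc, rfl⟩
        exact (hxC c hc).eq
      · rintro _ ⟨c, hc, rfl⟩ _ ⟨c', hc', rfl⟩
        rw [((hCab c hc c' hc').map ι).eq, mul_inv_cancel]
        exact one_mem _
      · obtain ⟨i, hi⟩ := P.cover g
        obtain ⟨u, c, hc, huc⟩ := hEDC ⟨_, hi⟩
        refine ⟨i, ι u, ι c, ⟨_, u.2, rfl⟩, ⟨c, hc, rfl⟩, ?_⟩
        rw [← map_mul, ← huc, show ι ⟨_, hi⟩ = (x ^ i)⁻¹ * g from rfl, mul_inv_cancel_left]
    have hR1 : CfsgLib.Regular.R1 p (normalizerIn S E) := by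
      refine r1_of_derived hp5 hNp (le_trans (Nat.le_of_dvd Nat.card_pos (Subgroup.card_dvd_of_le hcomm)) ?_)
      rw [← Nat.card_congr (D.equivMapOfInjective ι hι).toEquiv, hcard]
    have hexpc : ∀ w ∈ commutator (normalizerIn S E), w ^ p = 1 := fun w hw => by
      obtain ⟨e, he, rfl⟩ := hcomm hw
      rw [← map_pow, show e ^ p = 1 from congrArg (fun w : D => (w : E)) (hexp ⟨e, he⟩), map_one]
    have h1 : y = y ^ 4 * c₁ ^ p := by
      refine hι ?_
      have hc1 : Commute (x ^ 4 * ι (u₁ : E)) (ι c₁) :=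
        ((hxC c₁ hc₁).pow_left 4).mul_left ((show Commute (u₁ : E) c₁ from hc₁ u₁ u₁.2).map ι)
      have := congrArg P.δ hyx
      rw [hδι, hδC y hyC, map_pow, he₁, he₁', map_mul, ← mul_assoc, hc1.mul_pow,
        CfsgLib.Regular.mul_pow_of_exponent hR1 hexpc, ← pow_mul, mul_comm 4 p, pow_mul, ← hyx, ← map_pow ι, ← map_pow ι,
        show ((u₁ : E)) ^ p = 1 from congrArg (fun w : D => (w : E)) (hexp u₁), map_one, mul_one, ← map_pow ι,
        ← map_mul] at this
      exact this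
    obtain ⟨a, b, hab'⟩ : IsCoprime (3 : ℤ) (p : ℤ) := Nat.isCoprime_iff_coprime.2
      ((Nat.coprime_primes Nat.prime_three hpp).2 (by omega))
    have h2 : y ^ (3 : ℤ) = (c₁⁻¹) ^ (p : ℤ) := by
      rw [zpow_natCast, inv_pow, eq_inv_iff_mul_eq_one, show (3 : ℤ) = ((3 : ℕ) : ℤ) from rfl, zpow_natCast]
      refine mul_left_cancel (a := y) ?_
      rw [mul_one, ← mul_assoc, ← pow_succ', ← h1]
    refine ⟨(c₁⁻¹) ^ a * y ^ b, C.mul_mem (C.zpow_mem (C.inv_mem hc₁) a) (C.zpow_mem hyC b), ?_⟩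
    rw [(((hCab c₁ hc₁ y hyC).inv_left).zpow_zpow a b).mul_pow, ← zpow_natCast, ← zpow_natCast, ← zpow_mul, ← zpow_mul,
      mul_comm a, zpow_mul, ← h2, ← zpow_mul, ← zpow_add,
      show (3 : ℤ) * a + b * p = 1 by linear_combination hab', zpow_one]

theorem exists_shape (hE : F.IsEssential p E) : Nonempty (Shape F p E) := by
  have hES : E ≤ S := hE.1.1
  have hpp := hp.out
  haveI : Finite E := finite_of_le hES
  haveI := finite_autGroup (F := F) hES
  have hp2 : p ≠ 2 := by omega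
  have hpE : IsPGroup p E := hS.to_le hES
  obtain ⟨D, hDch, hDexp, hdet⟩ := CfsgLib.Small.exists_small_detecting (p := p) hpE
  haveI := hDch
  have hexp : ∀ d : D, d ^ p = 1 := fun d => by
    have := hDexp d d.2
    rw [CfsgLib.Small.smallExp, if_neg hp2] at this
    exact Subtype.ext this
  have hDp : IsPGroup p D := hpE.to_subgroup D
  have hab : ∀ A : Subgroup D, (∀ x ∈ A, ∀ y ∈ A, x * y = y * x) → Nat.card A ≤ p ^ 2 := by
    intro A hA
    let f : D →* Ω := E.subtype.comp D.subtype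
    have hf : Function.Injective f := E.subtype_injective.comp D.subtype_injective
    rw [Nat.card_congr (A.equivMapOfInjective f hf).toEquiv]
    refine hrk _ ?_ ⟨⟨⟨?_⟩⟩, ?_⟩
    · rintro _ ⟨b, -, rfl⟩
      exact hES (b : E).2
    · rintro ⟨_, u, hu, rfl⟩ ⟨_, v, hv, rfl⟩
      exact Subtype.ext (by rw [Subgroup.coe_mul, Subgroup.coe_mul, ← map_mul, ← map_mul, hA u hu v hv])
    · rintro _ ⟨b, -, rfl⟩
      rw [← map_pow, hexp, map_one]
  obtain ⟨n, hn⟩ := IsPGroup.iff_card.1 hDp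
  have hn3 : n ≤ 3 := by
    have := card_le_cube hDp hexp hab
    rw [hn] at this
    exact (Nat.pow_le_pow_iff_right hpp.one_lt).1 this
  rcases (show n ≤ 1 ∨ n = 2 ∨ n = 3 by omega) with h | rfl | rfl
  · exfalso
    let ρ : F.autGroup E →* MulAut D := (resD D).comp (F.autGroup E).subtype
    refine false_of_normal hS hF hE (K := ρ.ker) ?_ ?_
    · rintro ⟨a, ha⟩
      obtain ⟨i, hi⟩ := exists_coprime_pow (p := p) (a : MulAut E)
      refine ⟨i, Subtype.ext (Subtype.ext (hdet _ hi fun d hd => ?_))⟩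
      have h1 : ρ (a ^ p ^ i) = 1 := by rw [map_pow, MonoidHom.mem_ker.1 ha, one_pow]
      exact congrArg (fun f : MulAut D => ((f ⟨d, hd⟩ : D) : E)) h1
    · intro a ha
      obtain ⟨j, hj⟩ := EssentialSmall.pow_eq_one_of_mem_autInducedBy hS ha
      refine MonoidHom.mem_ker.2 (MulEquiv.ext fun d => fix_of_card_dvd (p := p) (r := ρ a) (j := j) ?_ ?_ d)
      · show ρ a ^ p ^ j = 1
        rw [← map_pow, show a ^ p ^ j = 1 from Subtype.ext hj, map_one]
      · rw [hn]; exact (pow_dvd_pow p h).trans (pow_one p).dvd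
  · exact shape_of_sq hp5 hS hF hrk hE hES D hexp hn hdet
  · refine (false_of_cube hp5 hS hF hrk hE hES D hexp hn (fun hc => ?_) hab hdet).elim
    have := hab ⊤ fun u _ v _ => hc u v
    rw [Subgroup.card_top, hn] at this
    exact absurd this (not_le.2 (Nat.pow_lt_pow_right hpp.one_lt (by omega)))

end Cfsg.RankTwoResistant
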